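import Groth.Agent.Lib.QCoh.Pullback
import Groth.Agent.Lib.CohBasics.Closure
import Mathlib.LinearAlgebra.TensorProduct.Quotient
import Mathlib.AlgebraicGeometry.Morphisms.ClosedImmersion

/-!
# Morphisms of quasi-coherent modules vanishing on a closed subscheme

If `i^* u = 0` for a closed immersion `i`, then on every affine open the image of `u` lies in
`I • G`, where `I` is the ideal of `i`.
-/

set_option autoImplicit false
universe u

open CategoryTheory Limits AlgebraicGeometry Opposite TopologicalSpace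

namespace Groth.Agent.H30.ModThick

open Groth.Agent.Lib.QCoh.Tilde Groth.Agent.Lib.QCoh.Pullback Groth.Agent.Lib.QCoh.Localizing
open Groth.Agent.Lib

/-- If `1 ⊗ y = 0` in `S ⊗ M` for a surjection `R → S`, then `y ∈ ker • M`. -/
lemma mem_ker_smul_top_of_one_tmul {R S : Type u} [CommRing R] [CommRing S] [Algebra R S]
    (h : Function.Surjective (algebraMap R S)) {M : Type u} [AddCommGroup M] [Module R M] (y : M)
    (hy : ((1 : S) ⊗ₜ[R] y) = 0) :
    y ∈ RingHom.ker (algebraMap R S) • (⊤ : Submodule R M) := by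
  let e : (R ⧸ RingHom.ker (algebraMap R S)) ≃ₐ[R] S :=
    Ideal.quotientKerAlgEquivOfSurjective (f := Algebra.ofId R S) h
  have h1 : TensorProduct.map e.symm.toLinearMap LinearMap.id ((1 : S) ⊗ₜ[R] y) = 0 := by
    rw [hy, map_zero]
  rw [TensorProduct.map_tmul] at h1
  have h2 := congrArg (TensorProduct.quotTensorEquivQuotSMul M (RingHom.ker (algebraMap R S))) h1
  rw [map_zero] at h2
  have h3 : e.symm.toLinearMap (1 : S) = Ideal.Quotient.mk _ (1 : R) := by
    show e.symm 1 = _
    rw [map_one, map_one]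
  rw [h3, LinearMap.id_apply, TensorProduct.quotTensorEquivQuotSMul_mk_tmul, one_smul] at h2
  exact (Submodule.Quotient.mk_eq_zero _).mp h2

/-- A morphism of modules whose base change along a surjection vanishes has image in `ker • N`. -/
lemma mem_of_extendScalars_map_eq_zero {R S : CommRingCat.{u}} (φ : R ⟶ S)
    (hφ : Function.Surjective φ.hom) {M N : ModuleCat.{u} R} (f : M ⟶ N)
    (h : (ModuleCat.extendScalars φ.hom).map f = 0) (x : M) :
    f x ∈ RingHom.ker φ.hom • (⊤ : Submodule R N) := by
  letI : Algebra R S := φ.hom.toAlgebra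
  refine mem_ker_smul_top_of_one_tmul (R := R) (S := S) hφ (f x) ?_
  have h1 := ModuleCat.ExtendScalars.map_tmul φ.hom f (1 : S) x
  rw [h] at h1
  exact h1.symm

variable {X Z : Scheme.{u}}

/-- The scalar action on global sections over the chart is the action of `Γ(X, V)`. -/
lemma fromSpec_smul_eq {V : X.Opens} (hV : IsAffineOpen V) (e : hV.fromSpec ''ᵁ ⊤ = V)
    (r : Γ(X, V)) :
    X.presheaf.map (eqToHom e.symm).op
      ((hV.fromSpec.appIso ⊤).inv ((Scheme.ΓSpecIso Γ(X, V)).inv r)) = r := by
  have h1 : (Scheme.ΓSpecIso Γ(X, V)).inv r =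
      (hV.fromSpec.appIso ⊤).hom (X.presheaf.map (eqToHom e).op r) := by
    rw [Scheme.Hom.appIso_hom, CommRingCat.comp_apply,
      ← CommRingCat.comp_apply (X.presheaf.map (eqToHom e).op), Scheme.Hom.naturality,
      hV.fromSpec_app_self, CommRingCat.comp_apply, CommRingCat.comp_apply,
      ← CommRingCat.comp_apply, ← CommRingCat.comp_apply, ← CommRingCat.comp_apply,
      ← Functor.map_comp, ← Functor.map_comp]
    exact ((congrArg (fun q => (Spec Γ(X, V)).presheaf.map q _) (Subsingleton.elim _ (𝟙 _))).trans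
      ((ConcreteCategory.congr_hom ((Spec Γ(X, V)).presheaf.map_id _) _).trans rfl)).symm
  rw [h1, Iso.hom_inv_id_apply, ← CommRingCat.comp_apply, ← Functor.map_comp]
  simp

/-- If the pullback of `u` along a closed immersion vanishes, the image of `u` on an affine open
lies in the ideal of the closed immersion times the target. -/
theorem app_mem_ideal_smul_top (i : Z ⟶ X) [IsClosedImmersion i] {F G : X.Modules}
    [F.IsQuasicoherent] [G.IsQuasicoherent] (u : F ⟶ G)
    (h : (Scheme.Modules.pullback i).map u = 0) {V : X.Opens} (hV : IsAffineOpen V) (s : Γ(F, V)) :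
    u.app V s ∈ i.ker.ideal ⟨V, hV⟩ • (⊤ : Submodule Γ(X, V) Γ(G, V)) := by
  have hU : IsAffineOpen (i ⁻¹ᵁ V) := hV.preimage i
  let jV := hV.fromSpec
  let φ := i.appLE V (i ⁻¹ᵁ V) le_rfl
  let jU := hU.fromSpec
  let g := Spec.map φ
  let v := (Scheme.Modules.restrictFunctor jV).map u
  have h1 : (Scheme.Modules.pullback g).map v = 0 := by
    have hn := (restrictPullbackIso i jU jV g
      (IsAffineOpen.SpecMap_appLE_fromSpec i hV hU le_rfl)).hom.naturality u
    simp only [Functor.comp_map, h, Functor.map_zero, zero_comp] at hn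
    exact (cancel_epi _).mp (hn.symm.trans comp_zero.symm)
  let f := (specΓ Γ(X, V)).map v
  have h2 : (Scheme.Modules.pullback g).map ((tilde.functor _).map f) = 0 := by
    let αF : (tilde.functor _).obj ((specΓ _).obj (F.restrict jV)) ≅ F.restrict jV :=
      isoTildeSections (F.restrict jV)
    let αG : (tilde.functor _).obj ((specΓ _).obj (G.restrict jV)) ≅ G.restrict jV :=
      isoTildeSections (G.restrict jV)
    have hn : (tilde.functor _).map f ≫ αG.hom = αF.hom ≫ v := (specAdj _).counit.naturality v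
    have e : (tilde.functor _).map f = αF.hom ≫ v ≫ αG.inv := by
      rw [← Category.assoc, Iso.eq_comp_inv]
      exact hn
    have e' : (Scheme.Modules.pullback g).map (αF.hom ≫ v ≫ αG.inv) = 0 := by
      rw [Functor.map_comp, Functor.map_comp, h1, zero_comp, comp_zero]
    exact (congrArg _ e).trans e'
  have h3 : (tilde.functor _).map ((ModuleCat.extendScalars φ.hom).map f) = 0 := by
    have hn := (pullbackTildeIso φ).hom.naturality f
    simp only [Functor.comp_map, g] at hn h2
    rw [h2, zero_comp] at hn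
    exact (cancel_epi _).mp (hn.symm.trans comp_zero.symm)
  have h4 : (ModuleCat.extendScalars φ.hom).map f = 0 :=
    (tilde.fullyFaithfulFunctor).map_injective (h3.trans (Functor.map_zero _ _ _).symm)
  have e : jV ''ᵁ ⊤ = V := by
    rw [Scheme.Hom.image_top_eq_opensRange, hV.opensRange_fromSpec]
  have hφ : Function.Surjective φ.hom := by
    simp only [φ, Scheme.Hom.appLE_eq_app]
    exact i.app_surjective V hV
  have hmem := mem_of_extendScalars_map_eq_zero φ hφ f h4
    (F.presheaf.map (eqToHom e).op s)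
  have key : ∀ z : (specΓ Γ(X, V)).obj (G.restrict jV),
      z ∈ RingHom.ker φ.hom • (⊤ : Submodule Γ(X, V) ((specΓ Γ(X, V)).obj (G.restrict jV))) →
      G.presheaf.map (eqToHom e.symm).op (z : Γ(G, jV ''ᵁ ⊤)) ∈
        i.ker.ideal ⟨V, hV⟩ • (⊤ : Submodule Γ(X, V) Γ(G, V)) := by
    intro z hz
    refine Submodule.smul_induction_on hz (fun r hr y _ => ?_) (fun a b ha hb => ?_)
    · have e1 : G.presheaf.map (eqToHom e.symm).op ((r • y :) : Γ(G, jV ''ᵁ ⊤)) =
          r • G.presheaf.map (eqToHom e.symm).op (y : Γ(G, jV ''ᵁ ⊤)) := by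
        refine Eq.trans ?_ (congrArg (fun c : Γ(X, V) =>
          c • G.presheaf.map (eqToHom e.symm).op (y : Γ(G, jV ''ᵁ ⊤))) (fromSpec_smul_eq hV e r))
        exact G.map_smul _ _ _
      rw [e1]
      refine Submodule.smul_mem_smul ?_ Submodule.mem_top
      rw [Scheme.Hom.ker_apply, ← Scheme.Hom.appLE_eq_app]
      exact hr
    · exact (map_add (G.presheaf.map (eqToHom e.symm).op).hom a b).symm ▸ Submodule.add_mem _ ha hb
  have := key _ hmem
  have e2 : G.presheaf.map (eqToHom e.symm).op (f (F.presheaf.map (eqToHom e).op s) : Γ(G, jV ''ᵁ ⊤))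
      = u.app V s := by
    show G.presheaf.map (eqToHom e.symm).op (u.app (jV ''ᵁ ⊤) (F.presheaf.map (eqToHom e).op s)) = _
    have hnat := congr($(u.mapPresheaf.naturality (eqToHom e).op) s)
    rw [show u.app (jV ''ᵁ ⊤) (F.presheaf.map (eqToHom e).op s) =
      G.presheaf.map (eqToHom e).op (u.app V s) from hnat, ← ConcreteCategory.comp_apply,
      ← Functor.map_comp]
    simp
  rwa [e2] at this

end Groth.Agent.H30.ModThick
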