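import Groth.Prelude.Def_FSch3
import Groth.Agent.Lib.Ideal.Comap
import Mathlib.AlgebraicGeometry.Noetherian

/-!
# Ideal sheaves of the systems of thickenings (helper30)
-/

universe u

open CategoryTheory CategoryTheory.Limits AlgebraicGeometry

namespace Groth.Agent.H30.IdealLemmas

open Groth.Agent.Lib.Ideal.Comap

variable {X Y Z : Scheme.{u}}

/-- If `h ≫ g = k` with `g` a monomorphism and `k` a closed immersion, then `ker h` is the inverse
image of `ker k`. -/
theorem ker_eq_comap_of_comp (h : X ⟶ Y) (g : Y ⟶ Z) (k : X ⟶ Z) (w : h ≫ g = k) [Mono g]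
    [IsClosedImmersion k] : h.ker = k.ker.comap g := by
  have hpb : IsPullback h (𝟙 X) g k := by
    refine IsPullback.of_isLimit' ⟨by rw [w, Category.id_comp]⟩
      (PullbackCone.IsLimit.mk _ (fun s => s.snd) (fun s => ?_) (fun s => Category.comp_id _)
        (fun s m _ h₂ => by simpa using h₂))
    rw [← cancel_mono g, Category.assoc, w]
    exact s.condition.symm
  rw [← Scheme.IdealSheafData.ker_fst_of_isClosedImmersion, ← hpb.isoPullback_hom_fst,
    Scheme.Hom.ker_comp_of_isIso]

theorem support_ker_eq_range (k : X ⟶ Z) [IsClosedImmersion k] :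
    (k.ker.support : Set Z) = Set.range k := by
  rw [Scheme.Hom.support_ker]
  exact k.isClosedEmbedding.isClosed_range.closure_eq

section IdealSpec

variable (A : Type u) [CommRing A] (J : Ideal A)

instance isClosedImmersion_specQuotMk :
    IsClosedImmersion (Spec.map (CommRingCat.ofHom (Ideal.Quotient.mk J))) :=
  IsClosedImmersion.spec_of_surjective _ Ideal.Quotient.mk_surjective

theorem idealSpec_ideal_top :
    (FSch.idealSpec A J).ideal ⟨⊤, isAffineOpen_top _⟩ =
      J.map (Scheme.ΓSpecIso (CommRingCat.of A)).inv.hom := by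
  rw [FSch.idealSpec, Scheme.Hom.ker_apply]
  have h := Scheme.ΓSpecIso_naturality (CommRingCat.ofHom (Ideal.Quotient.mk J))
  apply le_antisymm
  · intro x hx
    have hx' : (CommRingCat.ofHom (Ideal.Quotient.mk J)).hom
        ((Scheme.ΓSpecIso (CommRingCat.of A)).hom.hom x) = 0 := by
      have := congrArg (fun φ => φ.hom x) h
      simp only [CommRingCat.hom_comp, RingHom.comp_apply] at this
      rw [← this]
      exact (congrArg _ hx).trans (map_zero _)
    have := Ideal.mem_map_of_mem (Scheme.ΓSpecIso (CommRingCat.of A)).inv.hom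
      (Ideal.Quotient.eq_zero_iff_mem.mp hx')
    simpa using this
  · rw [Ideal.map_le_iff_le_comap]
    intro a ha
    have := congrArg (fun φ => φ.hom a)
      (Scheme.ΓSpecIso_inv_naturality (CommRingCat.ofHom (Ideal.Quotient.mk J)))
    simp only [CommRingCat.hom_comp, RingHom.comp_apply] at this
    refine Eq.trans this.symm ?_
    rw [show (CommRingCat.ofHom (Ideal.Quotient.mk J)).hom a = 0 from
      Ideal.Quotient.eq_zero_iff_mem.mpr ha]
    exact map_zero _

theorem idealSpec_pow (n : ℕ) : FSch.idealSpec A J ^ n = FSch.idealSpec A (J ^ n) := by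
  apply Scheme.IdealSheafData.ext_of_isAffine
  rw [Scheme.IdealSheafData.ideal_pow, Pi.pow_apply, idealSpec_ideal_top, idealSpec_ideal_top,
    Ideal.map_pow]

theorem comap_idealSpec (B : Type u) [CommRing B] (φ : B →+* A) (𝔟 : Ideal B) :
    (FSch.idealSpec B 𝔟).comap (Spec.map (CommRingCat.ofHom φ)) =
      FSch.idealSpec A (𝔟.map φ) := by
  apply Scheme.IdealSheafData.ext_of_isAffine
  rw [ideal_comap_top, idealSpec_ideal_top, idealSpec_ideal_top, Ideal.map_map, Ideal.map_map]
  congr 1
  exact congrArg CommRingCat.Hom.hom (Scheme.ΓSpecIso_inv_naturality (CommRingCat.ofHom φ)).symm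

instance isClosedImmersion_specQuot (n : ℕ) : IsClosedImmersion (CohB1.specQuot J n) :=
  IsClosedImmersion.spec_of_surjective _ Ideal.Quotient.mk_surjective

theorem ker_specQuot (n : ℕ) : (CohB1.specQuot J n).ker = FSch.idealSpec A J ^ (n + 1) :=
  (idealSpec_pow A J (n + 1)).symm

end IdealSpec

section SubLevels

/-! ### Systems cut out inside a fixed scheme by the powers of an ideal sheaf -/

variable (𝔛 : FSch.Sys.{u}) {P : Scheme.{u}} (K : P.IdealSheafData) (q : ∀ n, 𝔛.X n ⟶ P)
  [∀ n, IsClosedImmersion (q n)] (hq : ∀ n, 𝔛.ι n ≫ q (n + 1) = q n)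
  (hk : ∀ n, (q n).ker = K ^ (n + 1))

omit [∀ n, IsClosedImmersion (q n)] in
include hq in
theorem toX_comp : ∀ n, 𝔛.toX n ≫ q n = q 0
  | 0 => Category.id_comp _
  | n + 1 => by
      change (𝔛.toX n ≫ 𝔛.ι n) ≫ q (n + 1) = _
      rw [Category.assoc, hq, toX_comp n]

include hq hk

theorem isFormal_of_levels : 𝔛.IsFormal := by
  intro n
  have : IsClosedImmersion (𝔛.ι n ≫ q (n + 1)) := by rw [hq]; infer_instance
  refine ⟨IsClosedImmersion.of_comp (𝔛.ι n) (q (n + 1)), fun y => ?_⟩
  have hy : q (n + 1) y ∈ Set.range (q n) := by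
    have h1 : q (n + 1) y ∈ Set.range (q (n + 1)) := ⟨y, rfl⟩
    rw [← support_ker_eq_range, hk, Scheme.IdealSheafData.support_pow_succ] at h1 ⊢
    exact h1
  obtain ⟨x, hx⟩ := hy
  refine ⟨x, (q (n + 1)).isClosedEmbedding.injective ?_⟩
  rw [← Scheme.Hom.comp_apply, hq]
  exact hx

theorem ker_ι_eq (n : ℕ) : (𝔛.ι n).ker = (K.comap (q (n + 1))) ^ (n + 1) := by
  rw [ker_eq_comap_of_comp (𝔛.ι n) (q (n + 1)) (q n) (hq n), hk, comap_pow]

theorem ker_toX_eq (n : ℕ) : (𝔛.toX n).ker = K.comap (q n) := by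
  rw [ker_eq_comap_of_comp (𝔛.toX n) (q n) (q 0) (toX_comp 𝔛 q hq n), hk, pow_one]

theorem isAdic_of_levels : 𝔛.IsAdic := fun n => by
  rw [ker_ι_eq 𝔛 K q hq hk, ker_toX_eq 𝔛 K q hq hk]

theorem isLocNoethFormal_of_levels [IsLocallyNoetherian P] : 𝔛.IsLocNoethFormal :=
  ⟨isFormal_of_levels 𝔛 K q hq hk, isAdic_of_levels 𝔛 K q hq hk,
    fun n => LocallyOfFiniteType.isLocallyNoetherian (q n)⟩

end SubLevels

instance isClosedImmersion_completionToX (X : Scheme.{u}) (I : X.IdealSheafData) (n : ℕ) :
    IsClosedImmersion (FSch.completionToX X I n) :=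
  (inferInstance : IsClosedImmersion (I ^ (n + 1)).subschemeι)

theorem ker_completionToX (X : Scheme.{u}) (I : X.IdealSheafData) (n : ℕ) :
    (FSch.completionToX X I n).ker = I ^ (n + 1) :=
  Scheme.IdealSheafData.ker_subschemeι _

theorem completionToX_comp (X : Scheme.{u}) (I : X.IdealSheafData) (n : ℕ) :
    (FSch.completionAlong X I).ι n ≫ FSch.completionToX X I (n + 1) = FSch.completionToX X I n :=
  Scheme.IdealSheafData.inclusion_subschemeι _

theorem isLocNoethFormal_completionAlong (X : Scheme.{u}) [IsLocallyNoetherian X]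
    (I : X.IdealSheafData) : (FSch.completionAlong X I).IsLocNoethFormal :=
  isLocNoethFormal_of_levels _ I (fun n => FSch.completionToX X I n) (completionToX_comp X I)
    (ker_completionToX X I)

theorem isLocNoethFormal_spf (A : Type u) [CommRing A] [IsNoetherianRing A] (J : Ideal A) :
    (FSch.spf A J).IsLocNoethFormal :=
  have : ∀ n, IsClosedImmersion (FSch.spfToSpec A J n) := fun n => isClosedImmersion_specQuot A J n
  isLocNoethFormal_of_levels _ (FSch.idealSpec A J) (fun n => FSch.spfToSpec A J n)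
    (fun n => CohB1.specQuotTrans_specQuot J n) (ker_specQuot A J)

theorem exists_pow_le_of_support_le {X : Scheme.{u}} [CompactSpace X] (I J : X.IdealSheafData)
    (hI : ∀ V : X.affineOpens, (I.ideal V).FG) (h : (J.support : Set X) ⊆ I.support) :
    ∃ n : ℕ, I ^ (n + 1) ≤ J := by
  have hrad : I ≤ J.radical := by
    rw [← Scheme.IdealSheafData.vanishingIdeal_support]
    exact Scheme.IdealSheafData.le_support_iff_le_vanishingIdeal.mp h
  choose m hm using fun U : X.affineOpens =>
    Ideal.exists_pow_le_of_le_radical_of_fg (hrad U) (hI U)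
  obtain ⟨t, ht⟩ := CompactSpace.isCompact_univ.elim_finite_subcover
    (fun U : X.affineOpens => (U.1 : Set X)) (fun U => U.1.2) (fun x _ => by
      obtain ⟨U, hU, hxU, -⟩ := exists_isAffineOpen_mem_and_subset (show x ∈ (⊤ : X.Opens) from trivial)
      exact Set.mem_iUnion.mpr ⟨⟨U, hU⟩, hxU⟩)
  refine ⟨t.sup m, Scheme.IdealSheafData.le_of_iSup_eq_top (fun U : t => U.1) ?_ fun U => ?_⟩
  · refine eq_top_iff.mpr fun x _ => ?_
    obtain ⟨U, hU, hxU⟩ := Set.mem_iUnion₂.mp (ht (Set.mem_univ x))
    exact TopologicalSpace.Opens.mem_iSup.mpr ⟨⟨U, hU⟩, hxU⟩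
  · rw [Scheme.IdealSheafData.ideal_pow, Pi.pow_apply]
    exact (Ideal.pow_le_pow_right ((Finset.le_sup U.2).trans (Nat.le_succ _))).trans (hm U.1)

/-- The completed morphism along an inverse image ideal is the base change of the completion. -/
theorem isPullback_completionMap_app {X Y : Scheme.{u}} (f : X ⟶ Y) (K : Y.IdealSheafData)
    (h : FSch.PowCompat f (K.comap f) K) (n : ℕ) :
    IsPullback (FSch.completionToX X (K.comap f) n)
      ((FSch.completionMap f (K.comap f) K h : FSch.Hom _ _).app n) f (FSch.completionToX Y K n) :=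
  isPullback_of_isClosedImmersion _ _ _ _
    (Scheme.IdealSheafData.subschemeMap_subschemeι _ _ _
      (Scheme.IdealSheafData.le_map_iff_comap_le.mpr (h n))).symm
    (by rw [ker_completionToX, ker_completionToX, comap_pow])

theorem isAdicHom_completionMap {X Y : Scheme.{u}} (f : X ⟶ Y) (K : Y.IdealSheafData)
    (h : FSch.PowCompat f (K.comap f) K) :
    FSch.IsAdicHom (FSch.completionMap f (K.comap f) K h) := fun n => by
  refine IsPullback.of_right ?_ ((FSch.completionMap f (K.comap f) K h : FSch.Hom _ _).comm n).symm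
    (isPullback_completionMap_app f K h (n + 1))
  rw [completionToX_comp, completionToX_comp]
  exact isPullback_completionMap_app f K h n

end Groth.Agent.H30.IdealLemmas
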