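import Groth.Agent.H30.IdealLemmas
import Groth.Agent.H54.ThickLocal
import Mathlib.RingTheory.Noetherian.OfPrime
import Mathlib.RingTheory.Noetherian.Nilpotent
import Mathlib.AlgebraicGeometry.Morphisms.Proper

/-!
# Formal systems and adic morphisms of systems (helper30)
-/

universe u

open CategoryTheory CategoryTheory.Limits AlgebraicGeometry

namespace Groth.Agent.H30.SysLemmas

open Groth.Agent.H30.IdealLemmas Groth.Agent.Lib.Ideal.Comap

/-- A ring with a finitely generated nil ideal and noetherian quotient is noetherian. -/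
theorem isNoetherianRing_of_fg_le_nilradical {R : Type*} [CommRing R] (N : _root_.Ideal R)
    (hN : N.FG) (hle : N ≤ nilradical R) [IsNoetherianRing (R ⧸ N)] : IsNoetherianRing R := by
  refine IsNoetherianRing.of_prime fun P hP => ?_
  have hNP : N ≤ P := hle.trans ((nilradical_eq_sInf R).trans_le (sInf_le hP))
  obtain ⟨s, hs⟩ := (IsNoetherian.noetherian (P.map (_root_.Ideal.Quotient.mk N)) :
    (P.map (_root_.Ideal.Quotient.mk N)).FG)
  classical
  choose g hg using fun y : R ⧸ N => _root_.Ideal.Quotient.mk_surjective y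
  have hspan : P = _root_.Ideal.span (g '' (s : Set (R ⧸ N))) ⊔ N := by
    have h1 : (_root_.Ideal.span (g '' (s : Set (R ⧸ N)))).map (_root_.Ideal.Quotient.mk N) =
        P.map (_root_.Ideal.Quotient.mk N) := by
      rw [_root_.Ideal.map_span, Set.image_image, ← hs]
      simp [hg]
    have h2 := congrArg (_root_.Ideal.comap (_root_.Ideal.Quotient.mk N)) h1
    rw [_root_.Ideal.comap_map_of_surjective _ _root_.Ideal.Quotient.mk_surjective,
      _root_.Ideal.comap_map_of_surjective _ _root_.Ideal.Quotient.mk_surjective,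
      ← RingHom.ker_eq_comap_bot, _root_.Ideal.mk_ker, sup_eq_left.mpr hNP] at h2
    exact h2.symm
  rw [hspan]
  exact Submodule.FG.sup ⟨s.image g, by simp⟩ hN

/-- A thickening by a finite type ideal of a locally noetherian scheme is locally noetherian. -/
theorem isLocallyNoetherian_of_thickening {Y₀ Y : Scheme.{u}} (i : Y₀ ⟶ Y) [IsClosedImmersion i]
    [Surjective i] [IsLocallyNoetherian Y₀] {ι : Type*} (S : ι → Y.affineOpens)
    (hS : ⨆ j, (S j).1 = ⊤) (hft : ∀ j, (i.ker.ideal (S j)).FG) : IsLocallyNoetherian Y := by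
  refine isLocallyNoetherian_of_affine_cover (S := S) hS fun j => ?_
  have hker : i.ker.ideal (S j) = RingHom.ker (i.app (S j).1).hom := i.ker_apply (S j)
  have hsurj : Function.Surjective (i.app (S j).1).hom := i.app_surjective _ (S j).2
  have : IsNoetherianRing Γ(Y₀, i ⁻¹ᵁ (S j).1) :=
    IsLocallyNoetherian.component_noetherian ⟨_, (S j).2.preimage i⟩
  have : IsNoetherianRing (Γ(Y, (S j).1) ⧸ RingHom.ker (i.app (S j).1).hom) :=
    isNoetherianRing_of_ringEquiv _ (RingHom.quotientKerEquivOfSurjective hsurj).symm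
  exact isNoetherianRing_of_fg_le_nilradical _ (hker ▸ hft j)
    (Groth.Agent.H54.ThickLocal.le_nilradical_of_surjective i (S j).2)

section Square

variable {X X' Y Y' : Scheme.{u}} {iX : X ⟶ X'} {iY : Y ⟶ Y'} {f : X ⟶ Y} {f' : X' ⟶ Y'}
  (hc : IsPullback iX f f' iY) [IsClosedImmersion iY] [Surjective iY] [IsLocallyNoetherian Y']

include hc

theorem locallyOfFiniteType_of_thickening [LocallyOfFiniteType f] : LocallyOfFiniteType f' := by
  refine ⟨fun {V} hV {U} hU hUV => ?_⟩
  let := (f'.appLE V U hUV).hom.toAlgebra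
  have := Groth.Agent.H54.ThickLocal.finiteType_algebra hc hV hU hUV
  have : IsNoetherianRing Γ(Y', V) := IsLocallyNoetherian.component_noetherian ⟨V, hV⟩
  have hnil : IsNilpotent (RingHom.ker (iY.app V).hom) := by
    obtain ⟨n, hn⟩ := IsNoetherianRing.isNilpotent_nilradical Γ(Y', V)
    exact ⟨n, le_bot_iff.mp ((_root_.Ideal.pow_right_mono
      (Groth.Agent.H54.ThickLocal.le_nilradical_of_surjective iY hV) n).trans hn.le)⟩
  exact Groth.Agent.H54.ThickAlg.finiteType_of_isNilpotent _ hnil

theorem isClosedImmersion_of_thickening' [IsClosedImmersion f] : IsClosedImmersion f' :=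
  have := locallyOfFiniteType_of_thickening hc
  Groth.Agent.H54.ThickLocal.isClosedImmersion_of_thickening hc

theorem isProper_of_thickening [IsProper f] : IsProper f' := by
  have := locallyOfFiniteType_of_thickening hc
  have : IsClosedImmersion iX := MorphismProperty.of_isPullback hc.flip ‹IsClosedImmersion iY›
  have : Surjective iX := MorphismProperty.of_isPullback hc.flip ‹Surjective iY›
  have : UniversallyClosed f' :=
    (Groth.Agent.H54.ThickBasic.universallyClosed_iff hc.w).mp inferInstance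
  have hsep : IsSeparated (iX ≫ f') := hc.w ▸ inferInstance
  have : QuasiSeparated f' :=
    Groth.Agent.H54.ThickBasic.quasiSeparated_of_comp_surjective iX f'
  have h2 : pullback.diagonal (iX ≫ f') ≫
      pullback.map (iX ≫ f') (iX ≫ f') f' f' iX iX (𝟙 Y') (by simp) (by simp) =
      iX ≫ pullback.diagonal f' := by
    apply pullback.hom_ext
    · simp only [Category.assoc, pullback.map, pullback.lift_fst, pullback.diagonal_fst,
        pullback.diagonal_fst_assoc, Category.comp_id]
    · simp only [Category.assoc, pullback.map, pullback.lift_snd, pullback.diagonal_snd,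
        pullback.diagonal_snd_assoc, Category.comp_id]
  have : UniversallyClosed (iX ≫ pullback.diagonal f') := by
    rw [← h2]
    have : UniversallyClosed
        (pullback.map (iX ≫ f') (iX ≫ f') f' f' iX iX (𝟙 Y') (by simp) (by simp)) :=
      MorphismProperty.pullbackMap (P := @UniversallyClosed) inferInstance inferInstance rfl rfl
    infer_instance
  have : UniversallyClosed (pullback.diagonal f') :=
    UniversallyClosed.of_comp_surjective iX (pullback.diagonal f')
  have : IsSeparated f' := ⟨IsClosedImmersion.of_isPreimmersion _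
    (Scheme.Hom.isClosedMap (pullback.diagonal f')).isClosed_range⟩
  exact { }

theorem isFinite_of_thickening [IsFinite f] : IsFinite f' := by
  have := isProper_of_thickening hc
  have := locallyOfFiniteType_of_thickening hc
  have : IsClosedImmersion iX := MorphismProperty.of_isPullback hc.flip ‹IsClosedImmersion iY›
  have : Surjective iX := MorphismProperty.of_isPullback hc.flip ‹Surjective iY›
  have : LocallyQuasiFinite f' :=
    (Groth.Agent.H54.ThickBasic.locallyQuasiFinite_iff hc.w).mp inferInstance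
  exact (IsFinite.iff_isProper_and_locallyQuasiFinite f').mpr ⟨inferInstance, inferInstance⟩

end Square

section Adic

variable {𝔛 𝔖 : FSch.Sys.{u}}

theorem toX_isClosedImmersion (h : 𝔛.IsFormal) : ∀ n, IsClosedImmersion (𝔛.toX n)
  | 0 => inferInstanceAs (IsClosedImmersion (𝟙 _))
  | n + 1 => by
      have := toX_isClosedImmersion h n
      have := (h n).1
      change IsClosedImmersion (𝔛.toX n ≫ 𝔛.ι n)
      infer_instance

theorem toX_surjective (h : 𝔛.IsFormal) : ∀ n, Surjective (𝔛.toX n)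
  | 0 => inferInstanceAs (Surjective (𝟙 _))
  | n + 1 => by
      have := toX_surjective h n
      have : Surjective (𝔛.ι n) := ⟨(h n).2⟩
      change Surjective (𝔛.toX n ≫ 𝔛.ι n)
      infer_instance

variable {f : 𝔛 ⟶ 𝔖} (hf : FSch.IsAdicHom f)
include hf

theorem isPullback_toX : ∀ n, IsPullback (𝔛.toX n) ((f : FSch.Hom _ _).app 0)
    ((f : FSch.Hom _ _).app n) (𝔖.toX n)
  | 0 => by
      have : IsIso (𝔛.toX 0) := inferInstanceAs (IsIso (𝟙 _))
      have : IsIso (𝔖.toX 0) := inferInstanceAs (IsIso (𝟙 _))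
      exact IsPullback.of_horiz_isIso ⟨(Category.id_comp _).trans (Category.comp_id _).symm⟩
  | n + 1 => (isPullback_toX n).paste_horiz (hf n)

theorem isFormal_of_isAdicHom (h𝔖 : 𝔖.IsFormal) : 𝔛.IsFormal := fun n =>
  ⟨MorphismProperty.of_isPullback (P := @IsClosedImmersion) (hf n).flip (h𝔖 n).1,
    (MorphismProperty.of_isPullback (P := @Surjective.{u}) (hf n).flip ⟨(h𝔖 n).2⟩).surj⟩

theorem ker_ι_of_isAdicHom (h𝔖 : 𝔖.IsFormal) (n : ℕ) :
    (𝔛.ι n).ker = (𝔖.ι n).ker.comap ((f : FSch.Hom _ _).app (n + 1)) := by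
  have := (h𝔖 n).1
  rw [← Scheme.IdealSheafData.ker_fst_of_isClosedImmersion, ← (hf n).isoPullback_hom_fst,
    Scheme.Hom.ker_comp_of_isIso]

theorem ker_toX_of_isAdicHom (h𝔖 : 𝔖.IsFormal) (n : ℕ) :
    (𝔛.toX n).ker = (𝔖.toX n).ker.comap ((f : FSch.Hom _ _).app n) := by
  have := toX_isClosedImmersion h𝔖 n
  rw [← Scheme.IdealSheafData.ker_fst_of_isClosedImmersion,
    ← (isPullback_toX hf n).isoPullback_hom_fst, Scheme.Hom.ker_comp_of_isIso]

theorem isAdic_of_isAdicHom (h𝔖 : 𝔖.IsFormal) (hA : 𝔖.IsAdic) : 𝔛.IsAdic := fun n => by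
  rw [ker_ι_of_isAdicHom hf h𝔖, hA n, comap_pow, ker_toX_of_isAdicHom hf h𝔖]

theorem isLocNoethFormal_of_isAdicHom (h𝔖 : 𝔖.IsLocNoethFormal)
    [IsLocallyNoetherian (𝔛.X 0)] : 𝔛.IsLocNoethFormal := by
  obtain ⟨hF, hA, hN⟩ := h𝔖
  have hX := isFormal_of_isAdicHom hf hF
  refine ⟨hX, isAdic_of_isAdicHom hf hF hA, fun n => ?_⟩
  have := toX_isClosedImmersion hX n
  have := toX_surjective hX n
  have := hN n
  refine isLocallyNoetherian_of_thickening (𝔛.toX n)
    (fun p : {p : (𝔖.X n).affineOpens × (𝔛.X n).affineOpens //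
      p.2.1 ≤ (f : FSch.Hom _ _).app n ⁻¹ᵁ p.1.1} => p.1.2) ?_ (fun p => ?_)
  · refine eq_top_iff.mpr fun x _ => ?_
    obtain ⟨U, V, -, hxV, -, -, hle⟩ :=
      exists_affine_le_preimage ((f : FSch.Hom _ _).app n) x
        (show x ∈ (⊤ : (𝔛.X n).Opens) from trivial)
        (show _ ∈ (⊤ : (𝔖.X n).Opens) from trivial)
    exact TopologicalSpace.Opens.mem_iSup.mpr ⟨⟨(U, V), hle⟩, hxV⟩
  · rw [ker_toX_of_isAdicHom hf hF, ideal_comap _ _ p.1.1 p.1.2 p.2]
    have : IsNoetherianRing Γ(𝔖.X n, p.1.1.1) := IsLocallyNoetherian.component_noetherian p.1.1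
    exact _root_.Ideal.FG.map (IsNoetherian.noetherian _) _

theorem app_isFinite (h𝔖 : 𝔖.IsLocNoethFormal) [IsFinite ((f : FSch.Hom _ _).app 0)] (n : ℕ) :
    IsFinite ((f : FSch.Hom _ _).app n) :=
  have := toX_isClosedImmersion h𝔖.1 n
  have := toX_surjective h𝔖.1 n
  have := h𝔖.2.2 n
  isFinite_of_thickening (isPullback_toX hf n)

theorem app_isClosedImmersion (h𝔖 : 𝔖.IsLocNoethFormal)
    [IsClosedImmersion ((f : FSch.Hom _ _).app 0)] (n : ℕ) :
    IsClosedImmersion ((f : FSch.Hom _ _).app n) :=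
  have := toX_isClosedImmersion h𝔖.1 n
  have := toX_surjective h𝔖.1 n
  have := h𝔖.2.2 n
  isClosedImmersion_of_thickening' (isPullback_toX hf n)

theorem app_isProper (h𝔖 : 𝔖.IsLocNoethFormal) [IsProper ((f : FSch.Hom _ _).app 0)] (n : ℕ) :
    IsProper ((f : FSch.Hom _ _).app n) :=
  have := toX_isClosedImmersion h𝔖.1 n
  have := toX_surjective h𝔖.1 n
  have := h𝔖.2.2 n
  isProper_of_thickening (isPullback_toX hf n)

theorem app_locallyOfFiniteType (h𝔖 : 𝔖.IsLocNoethFormal)
    [LocallyOfFiniteType ((f : FSch.Hom _ _).app 0)] (n : ℕ) :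
    LocallyOfFiniteType ((f : FSch.Hom _ _).app n) :=
  have := toX_isClosedImmersion h𝔖.1 n
  have := toX_surjective h𝔖.1 n
  have := h𝔖.2.2 n
  locallyOfFiniteType_of_thickening (isPullback_toX hf n)

end Adic

end Groth.Agent.H30.SysLemmas
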