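import Groth.Agent.Lib.EtJ.RightAcyclic
import Mathlib.Algebra.Homology.DerivedCategory.Ext.ExactSequences
import Mathlib.Algebra.Homology.DerivedCategory.Ext.EnoughInjectives
import Mathlib.CategoryTheory.Preadditive.Injective.Preserves

/-!
# Right derived functors and `Ext` from the cycles of an injective resolution

`R^{k+1} G Z = coker (G I^k → G Z^{k+1})`, and `Ext^{k+1}(A, Z)` is `Hom(A, Z^{k+1})` modulo
`Hom(A, I^k)`, through the class `cycClass`.
-/

set_option autoImplicit false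

universe w v v' u u'

open CategoryTheory Limits Abelian
open Groth.Agent.Lib.EtJ.RightAcyclic

namespace Groth.Agent.H30.RightAcyc

variable {C : Type u} [Category.{v} C] [Abelian C] {Z : C} (P : InjectiveResolution Z)

section Derived

variable {D : Type u'} [Category.{v'} D] [Abelian D] [HasInjectiveResolutions C]
  (G : C ⥤ D) [G.Additive] [PreservesFiniteLimits G]

lemma cycToX_comp_d (k : ℕ) :
    (seq P k).g ≫ kernel.ι (P.cocomplex.d (k + 1) (k + 2)) = P.cocomplex.d k (k + 1) :=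
  kernel.lift_ι _ _ _

/-- The left homology data of `G I` in degree `k + 1`. -/
noncomputable def lhd (k : ℕ) :
    (((G.mapHomologicalComplex _).obj P.cocomplex).sc' k (k + 1) (k + 2)).LeftHomologyData :=
  let K : KernelFork (G.map (P.cocomplex.d (k + 1) (k + 2))) :=
    KernelFork.ofι (G.map (kernel.ι (P.cocomplex.d (k + 1) (k + 2))))
      (by rw [← G.map_comp, kernel.condition, G.map_zero])
  have hK : IsLimit K :=
    isLimitForkMapOfIsLimit' G (kernel.condition (P.cocomplex.d (k + 1) (k + 2))) (kernelIsKernel _)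
  have hf : hK.lift (KernelFork.ofι (G.map (P.cocomplex.d k (k + 1)))
      (by rw [← G.map_comp, P.cocomplex.d_comp_d, G.map_zero])) = G.map (seq P k).g := by
    refine Fork.IsLimit.hom_ext hK ((Fork.IsLimit.lift_ι hK).trans ?_)
    show G.map _ = G.map (seq P k).g ≫ G.map _
    rw [← G.map_comp, cycToX_comp_d]
  { K := G.obj (cyc P (k + 1))
    H := cokernel (G.map (seq P k).g)
    i := G.map (kernel.ι (P.cocomplex.d (k + 1) (k + 2)))
    π := cokernel.π _
    wi := by
      show G.map _ ≫ G.map _ = 0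
      rw [← G.map_comp, kernel.condition, G.map_zero]
    hi := hK
    wπ := (congrArg (· ≫ cokernel.π _) hf).trans (cokernel.condition _)
    hπ := CokernelCofork.IsColimit.ofπ (cokernel.π _) _
      (fun g hg => cokernel.desc _ g ((congrArg (· ≫ g) hf).symm.trans hg))
      (fun g hg => cokernel.π_desc _ _ _)
      (fun g hg m hm => (cancel_epi (cokernel.π _)).1 (hm.trans (cokernel.π_desc _ _ _).symm)) }

/-- `R^{k+1} G Z` is the cokernel of `G I^k → G Z^{k+1}`. -/
noncomputable def isoCokernel (k : ℕ) :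
    (G.rightDerived (k + 1)).obj Z ≅ cokernel (G.map (seq P k).g) :=
  P.isoRightDerivedObj G (k + 1) ≪≫
    ((G.mapHomologicalComplex _).obj P.cocomplex).homologyIsoSc' k (k + 1) (k + 2)
      (by simp) (by simp) ≪≫ (lhd P G k).homologyIso

theorem isZero_rightDerived (k : ℕ) (h : Epi (G.map (seq P k).g)) :
    IsZero ((G.rightDerived (k + 1)).obj Z) :=
  (isZero_cokernel_of_epi _).of_iso (isoCokernel P G k)

end Derived

/-- A chain of short exact sequences `0 → Z^k → I^k → Z^{k+1} → 0` with injective middle terms,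
starting at `Z`. -/
structure InjChain (Z : C) where
  cyc : ℕ → C
  X : ℕ → C
  i : ∀ k, cyc k ⟶ X k
  p : ∀ k, X k ⟶ cyc (k + 1)
  w : ∀ k, i k ≫ p k = 0
  shortExact : ∀ k, (ShortComplex.mk (i k) (p k) (w k)).ShortExact
  injective : ∀ k, Injective (X k)
  iso₀ : Z ≅ cyc 0

/-- The chain of an injective resolution. -/
noncomputable abbrev ofRes : InjChain Z where
  cyc := Groth.Agent.Lib.EtJ.RightAcyclic.cyc P
  X := P.cocomplex.X
  i k := (seq P k).f
  p k := (seq P k).g
  w k := (seq P k).zero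
  shortExact := seq_shortExact P
  injective := P.injective
  iso₀ := isoCyc₀ P

/-- The image of a chain under a functor that preserves it. -/
noncomputable abbrev InjChain.map {D : Type u'} [Category.{v'} D] [Abelian D] (R : InjChain Z)
    (G : C ⥤ D) [G.Additive] [G.PreservesInjectiveObjects]
    (h : ∀ k, ((ShortComplex.mk (R.i k) (R.p k) (R.w k)).map G).ShortExact) :
    InjChain (G.obj Z) where
  cyc k := G.obj (R.cyc k)
  X k := G.obj (R.X k)
  i k := G.map (R.i k)
  p k := G.map (R.p k)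
  w k := ((ShortComplex.mk (R.i k) (R.p k) (R.w k)).map G).zero
  shortExact := h
  injective k := haveI := R.injective k; G.injective_obj _
  iso₀ := G.mapIso R.iso₀

section Ext

variable [HasExt.{w} C] (R : InjChain Z)

/-- The class of the spliced sequence `0 → Z → I^0 → ⋯ → I^{k-1} → Z^k → 0`. -/
noncomputable def cycClass : ∀ k : ℕ, Ext.{w} (R.cyc k) Z k
  | 0 => Ext.mk₀ R.iso₀.inv
  | k + 1 => ((R.shortExact k).extClass).comp (cycClass k) (Nat.add_comm 1 k)

lemma cycClass_succ (k : ℕ) :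
    cycClass R (k + 1) =
      ((R.shortExact k).extClass).comp (cycClass.{w} R k) (Nat.add_comm 1 k) := rfl

variable (A : C)

lemma δ_surjective (k n : ℕ) (x : Ext.{w} A (R.cyc k) (n + 1)) :
    ∃ y : Ext.{w} A (R.cyc (k + 1)) n, y.comp (R.shortExact k).extClass rfl = x :=
  haveI := R.injective k
  Ext.covariant_sequence_exact₁ _ (R.shortExact k) x (Ext.eq_zero_of_injective _) rfl

lemma δ_injective (k n : ℕ) (x : Ext.{w} A (R.cyc (k + 1)) (n + 1))
    (hx : x.comp (R.shortExact k).extClass rfl = 0) : x = 0 := by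
  haveI := R.injective k
  obtain ⟨i, rfl⟩ := Ext.covariant_sequence_exact₃ _ (R.shortExact k) x rfl hx
  rw [Ext.eq_zero_of_injective i, Ext.zero_comp]

lemma δ_eq_zero (k : ℕ) (x : A ⟶ R.cyc (k + 1))
    (hx : (Ext.mk₀ x).comp (R.shortExact k).extClass (zero_add 1) = (0 : Ext.{w} A (R.cyc k) 1)) :
    ∃ i : A ⟶ R.X k, i ≫ R.p k = x := by
  obtain ⟨i, hi⟩ := Ext.covariant_sequence_exact₃ _ (R.shortExact k) (Ext.mk₀ x) (zero_add 1) hx
  obtain ⟨i, rfl⟩ := (Ext.mk₀_bijective _ _).2 i
  rw [Ext.mk₀_comp_mk₀] at hi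
  exact ⟨i, (Ext.mk₀_bijective _ _).1 hi⟩

lemma comp_cycClass_surjective : ∀ (k n m : ℕ) (hm : n + k = m) (x : Ext.{w} A Z m),
    ∃ y : Ext.{w} A (R.cyc k) n, y.comp (cycClass R k) hm = x
  | 0, n, m, hm, x => by
    obtain rfl : n = m := hm
    refine ⟨x.comp (Ext.mk₀ R.iso₀.hom) (add_zero n), ?_⟩
    rw [cycClass, Ext.comp_assoc_of_second_deg_zero, Ext.mk₀_comp_mk₀, Iso.hom_inv_id,
      Ext.comp_mk₀_id]
  | k + 1, n, m, hm, x => by
    obtain ⟨y, rfl⟩ := comp_cycClass_surjective k (n + 1) m (by omega) x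
    obtain ⟨z, rfl⟩ := δ_surjective R A k n y
    refine ⟨z, ?_⟩
    rw [cycClass_succ, ← Ext.comp_assoc _ _ _ rfl _ (by omega : n + 1 + k = m)]

lemma comp_cycClass_injective : ∀ (k n m : ℕ) (hm : n + 1 + k = m) (y : Ext.{w} A (R.cyc k) (n + 1)),
    y.comp (cycClass R k) hm = 0 → y = 0
  | 0, n, m, hm, y => fun hy => by
    obtain rfl : n + 1 = m := hm
    have := congrArg (fun t => Ext.comp t (Ext.mk₀ R.iso₀.hom) (add_zero (n + 1))) hy
    simpa [cycClass] using this
  | k + 1, n, m, hm, y => fun hy => by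
    rw [cycClass_succ, ← Ext.comp_assoc y _ _ rfl _ (by omega)] at hy
    exact δ_injective R A k n y (comp_cycClass_injective k (n + 1) m (by omega) _ hy)

/-- The map `Hom(A, Z^k) → Ext^k(A, Z)`. -/
noncomputable def toExt (k : ℕ) : (A ⟶ R.cyc k) →+ Ext.{w} A Z k where
  toFun x := (Ext.mk₀ x).comp (cycClass R k) (zero_add k)
  map_zero' := by rw [Ext.mk₀_zero, Ext.zero_comp]
  map_add' x y := by rw [Ext.mk₀_add, Ext.add_comp]

lemma toExt_apply (k : ℕ) (x : A ⟶ R.cyc k) :
    toExt.{w} R A k x = (Ext.mk₀ x).comp (cycClass R k) (zero_add k) := rfl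

lemma toExt_precomp {B : C} (f : B ⟶ A) (k : ℕ) (x : A ⟶ R.cyc k) :
    toExt.{w} R B k (f ≫ x) = (Ext.mk₀ f).comp (toExt R A k x) (zero_add k) := by
  rw [toExt_apply, toExt_apply, ← Ext.mk₀_comp_mk₀,
    Ext.comp_assoc _ _ _ (zero_add 0) (zero_add k) (by omega)]

lemma toExt_surjective (k : ℕ) : Function.Surjective (toExt.{w} R A k) := fun x => by
  obtain ⟨y, hy⟩ := comp_cycClass_surjective R A k 0 k (zero_add k) x
  obtain ⟨y, rfl⟩ := (Ext.mk₀_bijective _ _).2 y
  exact ⟨y, hy⟩

lemma toExt_zero_bijective : Function.Bijective (toExt.{w} R A 0) := by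
  refine ⟨fun x y h => ?_, toExt_surjective R A 0⟩
  simp only [toExt_apply, cycClass, Ext.mk₀_comp_mk₀] at h
  exact (cancel_mono _).1 ((Ext.mk₀_bijective _ _).1 h)

lemma toExt_succ_eq_zero_iff (k : ℕ) (x : A ⟶ R.cyc (k + 1)) :
    toExt.{w} R A (k + 1) x = 0 ↔ ∃ i : A ⟶ R.X k, i ≫ R.p k = x := by
  rw [toExt_apply, cycClass_succ,
    ← Ext.comp_assoc (Ext.mk₀ x) _ _ (zero_add 1) _ (by omega : 0 + 1 + k = k + 1)]
  constructor
  · intro h
    exact δ_eq_zero R A k x (comp_cycClass_injective R A k 0 (k + 1) (by omega) _ h)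
  · rintro ⟨i, rfl⟩
    rw [← Ext.mk₀_comp_mk₀, Ext.comp_assoc_of_second_deg_zero,
      (R.shortExact k).comp_extClass, Ext.comp_zero, Ext.zero_comp]

end Ext

end Groth.Agent.H30.RightAcyc
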