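import Mathlib.Algebra.Homology.DerivedCategory.Ext.ExactSequences

/-!
# Cohomology from chains of short exact sequences with acyclic middle terms
-/

universe w v u

open CategoryTheory Limits Abelian

namespace Groth.Agent.H30.AcycChain

variable {C : Type u} [Category.{v} C] [Abelian C] [HasExt.{w} C]

/-- A chain `0 → Z^k → X^k → Z^{k+1} → 0` starting at `Z` whose middle terms have no higher `Ext`
from `A`. -/
structure Chain (A Z : C) where
  cyc : ℕ → C
  X : ℕ → C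
  i : ∀ k, cyc k ⟶ X k
  p : ∀ k, X k ⟶ cyc (k + 1)
  w : ∀ k, i k ≫ p k = 0
  shortExact : ∀ k, (ShortComplex.mk (i k) (p k) (w k)).ShortExact
  acyclic : ∀ k n, Subsingleton (Ext.{w} A (X k) (n + 1))
  iso₀ : Z ≅ cyc 0

variable {A Z : C} (R : Chain.{w} A Z)

/-- The class of the spliced sequence. -/
noncomputable def cycClass : ∀ k : ℕ, Ext.{w} (R.cyc k) Z k
  | 0 => Ext.mk₀ R.iso₀.inv
  | k + 1 => ((R.shortExact k).extClass).comp (cycClass k) (Nat.add_comm 1 k)

lemma cycClass_succ (k : ℕ) :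
    cycClass R (k + 1) =
      ((R.shortExact k).extClass).comp (cycClass R k) (Nat.add_comm 1 k) := rfl

lemma δ_surjective (k n : ℕ) (x : Ext.{w} A (R.cyc k) (n + 1)) :
    ∃ y : Ext.{w} A (R.cyc (k + 1)) n, y.comp (R.shortExact k).extClass rfl = x :=
  haveI := R.acyclic k n
  Ext.covariant_sequence_exact₁ _ (R.shortExact k) x (Subsingleton.elim _ _) rfl

lemma δ_injective (k n : ℕ) (x : Ext.{w} A (R.cyc (k + 1)) (n + 1))
    (hx : x.comp (R.shortExact k).extClass rfl = 0) : x = 0 := by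
  haveI := R.acyclic k n
  obtain ⟨i, rfl⟩ := Ext.covariant_sequence_exact₃ _ (R.shortExact k) x rfl hx
  rw [Subsingleton.elim i 0, Ext.zero_comp]

lemma comp_cycClass_surjective : ∀ (k n m : ℕ) (hm : n + k = m) (x : Ext.{w} A Z m),
    ∃ y : Ext.{w} A (R.cyc k) n, y.comp (cycClass R k) hm = x
  | 0, n, m, hm, x => by
    obtain rfl : n = m := hm
    refine ⟨x.comp (Ext.mk₀ R.iso₀.hom) (add_zero n), ?_⟩
    rw [cycClass, Ext.comp_assoc_of_second_deg_zero, Ext.mk₀_comp_mk₀, Iso.hom_inv_id,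
      Ext.comp_mk₀_id]
  | k + 1, n, m, hm, x => by
    obtain ⟨y, rfl⟩ := comp_cycClass_surjective k (n + 1) m (by omega) x
    obtain ⟨z, rfl⟩ := δ_surjective R k n y
    refine ⟨z, ?_⟩
    rw [cycClass_succ, ← Ext.comp_assoc _ _ _ rfl _ (by omega : n + 1 + k = m)]

lemma comp_cycClass_injective : ∀ (k n m : ℕ) (hm : n + 1 + k = m) (y : Ext.{w} A (R.cyc k) (n + 1)),
    y.comp (cycClass R k) hm = 0 → y = 0
  | 0, n, m, hm, y => fun hy => by
    obtain rfl : n + 1 = m := hm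
    have := congrArg (fun t => Ext.comp t (Ext.mk₀ R.iso₀.hom) (add_zero (n + 1))) hy
    simpa [cycClass] using this
  | k + 1, n, m, hm, y => fun hy => by
    rw [cycClass_succ, ← Ext.comp_assoc y _ _ rfl _ (by omega)] at hy
    exact δ_injective R k n y (comp_cycClass_injective k (n + 1) m (by omega) _ hy)

/-- The map `Hom(A, Z^k) → Ext^k(A, Z)`. -/
noncomputable def toExt (k : ℕ) : (A ⟶ R.cyc k) →+ Ext.{w} A Z k :=
  AddMonoidHom.mk' (fun x => (Ext.mk₀ x).comp (cycClass R k) (zero_add k))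
    fun x y => by rw [Ext.mk₀_add, Ext.add_comp]

lemma toExt_apply (k : ℕ) (x : A ⟶ R.cyc k) :
    toExt R k x = (Ext.mk₀ x).comp (cycClass R k) (zero_add k) := rfl

lemma toExt_surjective (k : ℕ) : Function.Surjective (toExt R k) := fun x => by
  obtain ⟨y, hy⟩ := comp_cycClass_surjective R k 0 k (zero_add k) x
  obtain ⟨y, rfl⟩ := (Ext.mk₀_bijective _ _).2 y
  exact ⟨y, hy⟩

lemma toExt_zero_bijective : Function.Bijective (toExt R 0) := by
  refine ⟨fun x y h => ?_, toExt_surjective R 0⟩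
  simp only [toExt_apply, cycClass, Ext.mk₀_comp_mk₀] at h
  exact (cancel_mono _).1 ((Ext.mk₀_bijective _ _).1 h)

lemma toExt_succ_eq_zero_iff (k : ℕ) (x : A ⟶ R.cyc (k + 1)) :
    toExt R (k + 1) x = 0 ↔ ∃ i : A ⟶ R.X k, i ≫ R.p k = x := by
  rw [toExt_apply, cycClass_succ,
    ← Ext.comp_assoc (Ext.mk₀ x) _ _ (zero_add 1) _ (by omega : 0 + 1 + k = k + 1)]
  constructor
  · intro h
    obtain ⟨i, hi⟩ := Ext.covariant_sequence_exact₃ _ (R.shortExact k) (Ext.mk₀ x) (zero_add 1)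
      (comp_cycClass_injective R k 0 (k + 1) (by omega) _ h)
    obtain ⟨i, rfl⟩ := (Ext.mk₀_bijective _ _).2 i
    rw [Ext.mk₀_comp_mk₀] at hi
    exact ⟨i, (Ext.mk₀_bijective _ _).1 hi⟩
  · rintro ⟨i, rfl⟩
    rw [← Ext.mk₀_comp_mk₀, Ext.comp_assoc_of_second_deg_zero,
      (R.shortExact k).comp_extClass, Ext.comp_zero, Ext.zero_comp]

end Groth.Agent.H30.AcycChain
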