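import Groth.Agent.H30.SysLemmas

/-!
# Levels of an adic system with noetherian bottom (helper30)
-/

universe u

open CategoryTheory CategoryTheory.Limits AlgebraicGeometry

namespace Groth.Agent.H30.AdicLevels

open Groth.Agent.H30.IdealLemmas Groth.Agent.H30.SysLemmas Groth.Agent.Lib.Ideal.Comap

variable (𝔛 : FSch.Sys.{u}) (hF : 𝔛.IsFormal) (hA : 𝔛.IsAdic)

include hF

theorem ker_toX_comap_ι (n : ℕ) : (𝔛.toX (n + 1)).ker.comap (𝔛.ι n) = (𝔛.toX n).ker := by
  have := (hF n).1
  have := toX_isClosedImmersion hF (n + 1)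
  exact (ker_eq_comap_of_comp (𝔛.toX n) (𝔛.ι n) (𝔛.toX (n + 1)) rfl).symm

include hA

/-- In an adic system the ideal of the smallest level in `X n` is nilpotent of order `n + 1`. -/
theorem ker_toX_pow_eq_bot (n : ℕ) : (𝔛.toX n).ker ^ (n + 1) = ⊥ := by
  have := (hF n).1
  rw [← ker_toX_comap_ι 𝔛 hF n, ← comap_pow, ← hA n,
    ← ker_eq_comap_of_comp (𝟙 _) (𝔛.ι n) (𝔛.ι n) (Category.id_comp _)]
  exact Scheme.Hom.ker_eq_bot_of_isIso _

theorem isLocallyNoetherian_X [IsLocallyNoetherian (𝔛.X 0)] (hft : FSch.IdealFT (𝔛.ι 0).ker) :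
    ∀ n, IsLocallyNoetherian (𝔛.X n) := by
  intro n
  induction n with
  | zero => infer_instance
  | succ m ih =>
    have hcl := toX_isClosedImmersion hF (m + 1)
    have := toX_surjective hF (m + 1)
    refine isLocallyNoetherian_of_thickening (𝔛.toX (m + 1))
      (id : (𝔛.X (m + 1)).affineOpens → (𝔛.X (m + 1)).affineOpens)
      (iSup_affineOpens_eq_top _) fun V => ?_
    rcases m with _ | k
    · rw [show 𝔛.toX (0 + 1) = 𝔛.ι 0 from Category.id_comp _]
      exact hft V
    · set N := (𝔛.toX (k + 1 + 1)).ker with hNdef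
      have hι := (hF (k + 1)).1
      set B := ((𝔛.ι (k + 1)).app V.1).hom
      have hK : RingHom.ker B = (N.ideal V) ^ (k + 2) := by
        rw [← Scheme.Hom.ker_apply (𝔛.ι (k + 1)) V]
        rw [hA (k + 1)]
        rfl
      have hsurj : Function.Surjective B := (𝔛.ι (k + 1)).app_surjective _ V.2
      have : IsNoetherianRing Γ(𝔛.X (k + 1), (𝔛.ι (k + 1)) ⁻¹ᵁ V.1) :=
        IsLocallyNoetherian.component_noetherian ⟨_, V.2.preimage _⟩
      obtain ⟨s, hs⟩ := (IsNoetherian.noetherian ((N.ideal V).map B) : ((N.ideal V).map B).FG)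
      classical
      choose g hg using hsurj
      set G := _root_.Ideal.span (g '' (s : Set Γ(𝔛.X (k + 1), (𝔛.ι (k + 1)) ⁻¹ᵁ V.1)))
      have hpow2 : (N.ideal V) ^ (k + 2) ≤ (N.ideal V) ^ 2 :=
        _root_.Ideal.pow_le_pow_right (by omega)
      have hGN : N.ideal V ≤ G ⊔ (N.ideal V) ^ 2 := by
        have h1 : G.map B = (N.ideal V).map B := by
          rw [_root_.Ideal.map_span, Set.image_image, ← hs]
          simp [hg]
        calc N.ideal V ≤ ((N.ideal V).map B).comap B := _root_.Ideal.le_comap_map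
          _ = G ⊔ RingHom.ker B := by
            rw [← h1, _root_.Ideal.comap_map_of_surjective B (fun y => ⟨g y, hg y⟩), RingHom.ker_eq_comap_bot]
          _ ≤ _ := sup_le_sup_left (hK.le.trans hpow2) _
      have hGle : G ≤ N.ideal V := by
        rw [_root_.Ideal.span_le]
        rintro _ ⟨y, hy, rfl⟩
        have h2 : B (g y) ∈ (N.ideal V).map B := by
          rw [hg, ← hs]
          exact Submodule.subset_span hy
        have h3 : g y ∈ ((N.ideal V).map B).comap B := h2
        rw [_root_.Ideal.comap_map_of_surjective B (fun z => ⟨g z, hg z⟩),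
          ← RingHom.ker_eq_comap_bot] at h3
        exact (sup_le le_rfl (hK.le.trans (_root_.Ideal.pow_le_self (by omega)))) h3
      have hall : ∀ j : ℕ, N.ideal V ≤ G ⊔ (N.ideal V) ^ (j + 1) := by
        intro j
        induction j with
        | zero => simp
        | succ j ihj =>
          refine hGN.trans (sup_le le_sup_left ?_)
          rw [pow_two]
          refine (_root_.Ideal.mul_mono_left ihj).trans ?_
          rw [_root_.Ideal.sup_mul, pow_succ (N.ideal V) (j + 1)]
          exact sup_le_sup_right _root_.Ideal.mul_le_left _ |>.trans le_rfl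
      have hbot : (N.ideal V) ^ (k + 1 + 1 + 1) = ⊥ := by
        have h4 := congrArg (fun J : (𝔛.X (k + 1 + 1)).IdealSheafData => J.ideal V)
          (ker_toX_pow_eq_bot 𝔛 hF hA (k + 1 + 1))
        simp only [Scheme.IdealSheafData.ideal_pow, Pi.pow_apply, Scheme.IdealSheafData.ideal_bot,
          Pi.bot_apply] at h4
        exact h4
      have : N.ideal V = G := le_antisymm (by simpa [hbot] using hall (k + 1 + 1)) hGle
      change (N.ideal V).FG
      rw [this]
      exact ⟨s.image g, by simp [G]⟩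

end Groth.Agent.H30.AdicLevels
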