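import Groth.Agent.H30.CechTop

/-!
# Čech cohomology of a family with acyclic intersections computes cohomology of the union
-/

set_option autoImplicit false
set_option linter.style.haveILetI false

universe u

open CategoryTheory Limits TopologicalSpace Opposite
open Groth.Agent.Lib.Cech.Complex Groth.Agent.Lib.ZarCoh.Basic Groth.Agent.Lib.ZarCoh.Compare
open Groth.Agent.H30.CechTop

namespace Groth.Agent.H30.CechAcyclicCover

variable {X : TopCat.{u}} {ι : Type u}

/-- Cohomology on equal opens. -/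
noncomputable def congrDom (F : CohTop.Ab X) (p : ℕ) {A B : Opens X} (h : A = B) :
    CategoryTheory.Abelian.Ext.{u} (Zs.obj A) F p ≃+ CategoryTheory.Abelian.Ext.{u} (Zs.obj B) F p :=
  h ▸ AddEquiv.refl _

theorem nonempty_cechH_addEquiv_HU (F : CohTop.Ab X) (U : ι → Opens X)
    (h : ∀ (p : ℕ) (a : Fin (p + 1) → ι) (q : ℕ),
      Subsingleton (CohTop.HU F (q + 1) (inter U a))) (p : ℕ) :
    Nonempty (CohTop.cechH F.obj U p ≃+ CohTop.HU F p (iSup U)) := by
  let W : Opens X := iSup U
  let he : Topology.IsOpenEmbedding W.inclusion' := W.isOpenEmbedding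
  let F' := (rst he).obj F
  let U' : ι → Opens ((Opens.toTopCat X).obj W) := fun i => (Opens.map W.inclusion').obj (U i)
  have himg : ∀ (V : Opens ((Opens.toTopCat X).obj W)) (V₀ : Opens X),
      (∀ x : TopCat.of W, x ∈ V ↔ (x : W).1 ∈ V₀) → V₀ ≤ W → he.functor.obj V = V₀ :=
    fun V V₀ hiff hle => Opens.ext (Set.ext fun x =>
      ⟨fun ⟨y, hy, e⟩ => e ▸ (hiff y).1 hy, fun hx => ⟨⟨x, hle hx⟩, (hiff _).2 hx, rfl⟩⟩)
  have hinter : ∀ {q : ℕ} (i : Fin (q + 1) → ι), he.functor.obj (inter U' i) = inter U i :=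
    fun i => himg _ _ (fun x => ((mem_inter U').trans ⟨fun hx => (mem_inter U).2 fun a => hx a,
      fun hx => fun a => (mem_inter U).1 hx a⟩)) (inter_le_iSup U i)
  have htop : he.functor.obj ⊤ = W := himg _ _ (fun x => ⟨fun _ => x.2, fun _ => trivial⟩) le_rfl
  have hcov : iSup U' = ⊤ := eq_top_iff.2 fun x _ => by
    obtain ⟨i, hi⟩ := Opens.mem_iSup.1 (show (x : W).1 ∈ iSup U from x.2)
    exact Opens.mem_iSup.2 ⟨i, hi⟩
  have hF' : Groth.Agent.Lib.Cech.Compare.InterAcyclic U' F' := fun q i n => by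
    have h1 : Subsingleton (CategoryTheory.Abelian.Ext.{u}
        (Zs.obj (he.functor.obj (inter U' i))) F (n + 1)) := by
      rw [hinter i]; exact h q i n
    exact (restrEquiv he (inter U' i) (n + 1) F).symm.toEquiv.subsingleton
  obtain ⟨e⟩ := Groth.Agent.Lib.Cech.Compare.nonempty_cechH_addEquiv_H hcov p F' hF'
  have c : cx U F.obj ≅ cx U' F'.obj := cxIso
    (fun q i => ((F.obj.mapIso (eqToIso (hinter i)).op).addCommGroupIsoToAddEquiv :
      F.obj.obj (op (inter U i)) ≃+ F.obj.obj (op (he.functor.obj (inter U' i)))))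
    (fun q i j x => by
      show (F.obj.map (homOfLE (inter_le_face U i j)).op ≫ F.obj.map (eqToHom (hinter i)).op) x =
        (F.obj.map (eqToHom (hinter (i ∘ j.succAbove))).op ≫ F.obj.map
          (he.functor.map (homOfLE (inter_le_face U' i j))).op) x
      rw [← Functor.map_comp, ← Functor.map_comp]
      rfl)
  have e2 : CategoryTheory.Abelian.Ext.{u} (Zs.obj W) F p ≃+
      CategoryTheory.Abelian.Ext.{u} (Zs.obj (⊤ : Opens ((Opens.toTopCat X).obj W))) F' p :=
    (congrDom F p htop).symm.trans (restrEquiv he ⊤ p F)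
  exact ⟨((HomologicalComplex.homologyFunctor AddCommGrpCat.{u} _ p).mapIso
    c).addCommGroupIsoToAddEquiv.trans (e.trans ((hTop F' p).trans e2.symm))⟩

end Groth.Agent.H30.CechAcyclicCover
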