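import Groth.Agent.Lib.Cech.Criterion
import Groth.Agent.Lib.Cech.Compare
import Groth.Agent.Lib.ZarCoh.Compare

/-!
# Čech cohomology: transport, flasque sheaves, surjective restrictions, Cartan's criterion

* `cxIso`: Čech complexes agreeing on intersections are isomorphic;
* `exactSucc_of_flasque`, `exactSucc_of_surjective`;
* `subsingleton_HU_of_cov`: Cartan's criterion for a class of coverings.
-/

set_option autoImplicit false
set_option linter.style.haveILetI false

universe u

open CategoryTheory Limits TopologicalSpace Opposite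
open Groth.Agent.Lib.Cech
open Groth.Agent.Lib.Cech.Complex Groth.Agent.Lib.Cech.Acyclic Groth.Agent.Lib.Cech.Sections
  Groth.Agent.Lib.Cech.Criterion

namespace Groth.Agent.H30.CechTop

section Transport

variable {X Y : TopCat.{u}} {ι : Type u} {U : ι → Opens X} {V : ι → Opens Y}
  {P : (Opens X)ᵒᵖ ⥤ AddCommGrpCat.{u}} {Q : (Opens Y)ᵒᵖ ⥤ AddCommGrpCat.{u}}
  (e : ∀ (q : ℕ) (i : Fin (q + 1) → ι), P.obj (op (inter U i)) ≃+ Q.obj (op (inter V i)))
  (he : ∀ (q : ℕ) (i : Fin (q + 2) → ι) (j : Fin (q + 2)) (x : P.obj (op (inter U (i ∘ j.succAbove)))),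
    e (q + 1) i (res P (inter_le_face U i j) x) = res Q (inter_le_face V i j) (e q _ x))

/-- Cochains correspond. -/
def cochainEquiv (q : ℕ) : Cochain U P q ≃+ Cochain V Q q :=
  AddEquiv.piCongrRight fun i => e q i

include he in
lemma cochainEquiv_dC (q : ℕ) (c : Cochain U P q) :
    cochainEquiv e (q + 1) (dC U P q c) = dC V Q q (cochainEquiv e q c) := by
  funext i
  simp only [cochainEquiv, AddEquiv.piCongrRight_apply, dC_apply, map_sum, map_zsmul, he]

include he in
theorem exactSucc_congr (q : ℕ) (h : ExactSucc V Q q) : ExactSucc U P q := fun c hc => by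
  obtain ⟨b, hb⟩ := h (cochainEquiv e (q + 1) c) (by rw [← cochainEquiv_dC e he, hc, map_zero])
  refine ⟨(cochainEquiv e q).symm b, (cochainEquiv e (q + 1)).injective ?_⟩
  rw [cochainEquiv_dC e he, AddEquiv.apply_symm_apply, hb]

/-- Čech complexes agreeing on intersections are isomorphic. -/
noncomputable def cxIso : cx U P ≅ cx V Q :=
  HomologicalComplex.Hom.isoOfComponents
    (fun q => ((equiv U P q).trans ((cochainEquiv e q).trans (equiv V Q q).symm)).toAddCommGrpIso)
    (fun q r hqr => by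
      obtain rfl : q + 1 = r := hqr
      ext x
      apply (equiv V Q (q + 1)).injective
      show equiv V Q (q + 1) ((cx V Q).d q (q + 1) ((equiv V Q q).symm
          (cochainEquiv e q (equiv U P q x)))) =
        equiv V Q (q + 1) ((equiv V Q (q + 1)).symm (cochainEquiv e (q + 1)
          (equiv U P (q + 1) ((cx U P).d q (q + 1) x))))
      rw [equiv_d, AddEquiv.apply_symm_apply, AddEquiv.apply_symm_apply, equiv_d,
        cochainEquiv_dC e he])

end Transport

variable {X : TopCat.{u}} {ι : Type u} (U : ι → Opens X)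

lemma mem_inter {q : ℕ} {i : Fin (q + 1) → ι} {x : X} :
    x ∈ inter U i ↔ ∀ a, x ∈ U (i a) := by
  refine ⟨fun h a => inter_le U i a h, fun h => ?_⟩
  have hopen : IsOpen (⋂ a, (U (i a) : Set X)) := isOpen_iInter_of_finite fun a => (U (i a)).2
  exact (show (⟨_, hopen⟩ : Opens X) ≤ inter U i from
    le_iInf fun a _ hz => Set.mem_iInter.1 hz a) (Set.mem_iInter.2 h)

lemma inter_le_iSup {q : ℕ} (i : Fin (q + 1) → ι) : inter U i ≤ iSup U :=
  (inter_le U i 0).trans (le_iSup U _)

lemma exactSucc_zero_of_shortExact {S : ShortComplex (CohTop.Ab X)} (hS : S.ShortExact)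
    [Injective S.X₂] [Subsingleton (CohTop.HU S.X₁ 1 (iSup U))] : ExactSucc U S.X₁.obj 0 := by
  intro c hc
  obtain ⟨t, ht⟩ := exactSucc_of_injective U S.X₂ 0 (Complex.map S.f.hom 1 c)
    (by rw [← map_dC, hc, map_zero])
  obtain ⟨s, hs⟩ := exists_aug_eq U S.X₃ rfl (Complex.map S.g.hom 0 t) (by
    rw [← map_dC, ht]
    exact funext fun i => app_zero _ _)
  obtain ⟨r, rfl⟩ := app_surjective hS (iSup U) s
  obtain ⟨b, hb⟩ := exists_map_eq hS U 0 (t - aug U S.X₂.obj (fun i => le_iSup U i) r) (by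
    rw [map_sub, ← hs]
    refine sub_eq_zero.2 (funext fun i => ?_)
    exact (res_naturality S.g.hom _ r).symm)
  refine ⟨b, map_f_injective hS U 1 ?_⟩
  rw [map_dC, hb, map_sub, ht, dC_aug, sub_zero]

lemma exactSucc_succ_of_shortExact {S : ShortComplex (CohTop.Ab X)} (hS : S.ShortExact)
    [Injective S.X₂] (q : ℕ)
    (hsurj : ∀ i : Fin (q + 1) → ι, Function.Surjective (S.g.hom.app (op (inter U i))))
    (h3 : ExactSucc U S.X₃.obj q) : ExactSucc U S.X₁.obj (q + 1) := by
  intro c hc
  obtain ⟨t, ht⟩ := exactSucc_of_injective U S.X₂ (q + 1) (Complex.map S.f.hom (q + 2) c)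
    (by rw [← map_dC, hc, map_zero])
  obtain ⟨e, he⟩ := h3 (Complex.map S.g.hom (q + 1) t) (by
    rw [← map_dC, ht]
    exact funext fun i => app_zero _ _)
  choose e' he' using fun i => hsurj i (e i)
  obtain ⟨b, hb⟩ := exists_map_eq hS U (q + 1) (t - dC U S.X₂.obj q e') (by
    rw [map_sub, map_dC, show Complex.map S.g.hom q e' = e from funext he', he, sub_self])
  refine ⟨b, map_f_injective hS U (q + 2) ?_⟩
  rw [map_dC, hb, map_sub, ht, dC_dC, sub_zero]

/-- A flasque sheaf is Čech-acyclic for every family of opens. -/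
theorem exactSucc_of_flasque (q : ℕ) :
    ∀ (F : CohTop.Ab X), TopCat.Sheaf.IsFlasque F → ExactSucc U F.obj q := by
  induction q with
  | zero =>
    intro F hF
    haveI := hF
    haveI : Injective (cokerSeq (Injective.ι F)).X₂ := inferInstanceAs (Injective (Injective.under F))
    haveI : Subsingleton (CohTop.HU (cokerSeq (Injective.ι F)).X₁ 1 (iSup U)) :=
      Groth.Agent.Lib.ZarCoh.Basic.HU_flasque F _ 0
    exact exactSucc_zero_of_shortExact U (cokerSeq_shortExact (Injective.ι F))
  | succ q ih =>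
    intro F hF
    haveI := hF
    haveI : Injective (cokerSeq (Injective.ι F)).X₂ := inferInstanceAs (Injective (Injective.under F))
    haveI : TopCat.Sheaf.IsFlasque (cokerSeq (Injective.ι F)).X₂ :=
      Groth.Agent.Lib.ZarCoh.Basic.isFlasque_of_injective _
    haveI : TopCat.Sheaf.IsFlasque (cokerSeq (Injective.ι F)).X₁ := hF
    have hS := cokerSeq_shortExact (Injective.ι F)
    refine exactSucc_succ_of_shortExact U hS q (fun i => ?_)
      (ih _ (TopCat.Sheaf.IsFlasque.of_shortExact_of_isFlasque₁₂ hS))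
    haveI : Subsingleton (CohTop.HU (cokerSeq (Injective.ι F)).X₁ 1 (inter U i)) :=
      Groth.Agent.Lib.ZarCoh.Basic.HU_flasque F _ 0
    exact app_surjective hS _

/-- The opens that are unions of finite intersections of members of `U`. -/
def Lat : Set (Opens X) :=
  {W | ∃ (κ : Type u) (a : κ → Σ p : ℕ, Fin (p + 1) → ι), W = ⨆ k, inter U (a k).2}

lemma lat_iSup {κ : Type u} (W : κ → Opens X) (h : ∀ k, W k ∈ Lat U) : iSup W ∈ Lat U := by
  choose A a ha using h
  refine ⟨Σ k, A k, fun p => a p.1 p.2, ?_⟩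
  rw [iSup_sigma]
  exact iSup_congr ha

lemma lat_inf {V W : Opens X} (hV : V ∈ Lat U) (hW : W ∈ Lat U) : V ⊓ W ∈ Lat U := by
  obtain ⟨A, a, rfl⟩ := hV
  obtain ⟨B, b, rfl⟩ := hW
  refine ⟨A × B, fun p => ⟨(a p.1).1 + (b p.2).1 + 1,
    fun m => Fin.append (a p.1).2 (b p.2).2 (Fin.cast (by omega) m)⟩, ?_⟩
  ext x
  simp only [Opens.coe_inf, Set.mem_inter_iff, SetLike.mem_coe, Opens.mem_iSup, mem_inter,
    Prod.exists]
  constructor
  · rintro ⟨⟨i, hi⟩, j, hj⟩
    refine ⟨i, j, fun m => ?_⟩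
    refine Fin.addCases (motive := fun l => x ∈ U (Fin.append (a i).2 (b j).2 l))
      (fun l => by rw [Fin.append_left]; exact hi l) (fun l => by rw [Fin.append_right]; exact hj l)
      (Fin.cast (by omega) m)
  · rintro ⟨i, j, h⟩
    refine ⟨⟨i, fun l => ?_⟩, j, fun l => ?_⟩
    · have := h (Fin.cast (by omega) (Fin.castAdd ((b j).1 + 1) l))
      rwa [Fin.cast_cast, Fin.cast_eq_self, Fin.append_left] at this
    · have := h (Fin.cast (by omega) (Fin.natAdd ((a i).1 + 1) l))
      rwa [Fin.cast_cast, Fin.cast_eq_self, Fin.append_right] at this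

lemma lat_inter {q : ℕ} (i : Fin (q + 1) → ι) : inter U i ∈ Lat U :=
  ⟨PUnit, fun _ => ⟨q, i⟩, iSup_const.symm⟩

lemma lat_bot : (⊥ : Opens X) ∈ Lat U :=
  ⟨PEmpty, fun k => k.elim, (iSup_of_empty _).symm⟩

lemma lat_self (i : ι) : U i ∈ Lat U := by
  have h : inter U (fun _ : Fin 1 => i) = U i :=
    le_antisymm (inter_le U _ 0) (le_iInf fun _ => le_rfl)
  exact h ▸ lat_inter U _

lemma lat_le {W : Opens X} (hW : W ∈ Lat U) : W ≤ iSup U := by
  obtain ⟨κ, a, rfl⟩ := hW
  exact iSup_le fun k => inter_le_iSup U _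

/-- The space with the coarser topology of unions of finite intersections of members of `U`. -/
@[nolint unusedArguments]
def Coarse (_ : ι → Opens X) : Type u := X

/-- The coarser topology: unions of finite intersections of members of `U`, and the whole space. -/
def coarseTop : TopologicalSpace (X : Type u) where
  IsOpen s := s = Set.univ ∨ ∃ W ∈ Lat U, s = (W : Set X)
  isOpen_univ := Or.inl rfl
  isOpen_inter s t hs ht := by
    obtain rfl | ⟨V, hV, rfl⟩ := hs
    · rwa [Set.univ_inter]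
    obtain rfl | ⟨W, hW, rfl⟩ := ht
    · rw [Set.inter_univ]; exact Or.inr ⟨V, hV, rfl⟩
    exact Or.inr ⟨V ⊓ W, lat_inf U hV hW, (Opens.coe_inf V W).symm⟩
  isOpen_sUnion S hS := by
    by_cases h : Set.univ ∈ S
    · exact Or.inl (Set.eq_univ_of_univ_subset (Set.subset_sUnion_of_mem h))
    have h' : ∀ s : S, ∃ W ∈ Lat U, (s : Set X) = W :=
      fun s => (hS s.1 s.2).resolve_left fun e => h (e ▸ s.2)
    choose W hW hsW using h'
    refine Or.inr ⟨iSup W, lat_iSup U W hW, ?_⟩
    ext x
    simp only [Set.mem_sUnion, SetLike.mem_coe, Opens.mem_iSup]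
    exact ⟨fun ⟨s, hs, hx⟩ => ⟨⟨s, hs⟩, by rw [← SetLike.mem_coe, ← hsW ⟨s, hs⟩]; exact hx⟩,
      fun ⟨s, hx⟩ => ⟨s.1, s.2, by rw [hsW s]; exact hx⟩⟩

/-- The coarser topology on `Coarse U`. -/
instance coarse : TopologicalSpace (Coarse U) := coarseTop U

/-- If the restrictions from the union to unions of finite intersections are surjective, the Čech
cohomology vanishes in positive degrees. -/
theorem exactSucc_of_surjective (F : CohTop.Ab X)
    (h : ∀ (W : Opens X) (hW : W ≤ iSup U), W ∈ Lat U →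
      Function.Surjective (F.obj.map (homOfLE hW).op)) (q : ℕ) :
    ExactSucc U F.obj q := by
  let X' : TopCat.{u} := TopCat.of (Coarse U)
  let W₀ : Opens X := iSup U
  let g : TopCat.of W₀ ⟶ X' := TopCat.ofHom
    { toFun := fun x => (x.1 : Coarse U)
      continuous_toFun := by
        refine continuous_def.2 fun s hs => ?_
        obtain rfl | ⟨W, -, rfl⟩ := hs
        · exact isOpen_univ
        · exact W.2.preimage continuous_subtype_val }
  let G : CohTop.Ab X' := (CohTop.push g).obj (CohTop.restr F W₀)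
  let img : Opens X' → Opens X := fun W =>
    W₀.isOpenEmbedding.functor.obj ((Opens.map g).obj W)
  have himg : ∀ (W : Opens X') (x : X), x ∈ img W ↔ x ∈ W₀ ∧ x ∈ (W : Set (Coarse U)) :=
    fun W x => ⟨fun ⟨y, hy, e⟩ => by subst e; exact ⟨y.2, hy⟩,
      fun ⟨h₁, h₂⟩ => ⟨⟨x, h₁⟩, h₂, rfl⟩⟩
  have hlat : ∀ W : Opens X', img W ∈ Lat U := fun W => by
    obtain hW | ⟨V, hV, hW⟩ := W.2
    · have : img W = iSup U := Opens.ext (Set.ext fun x => (himg W x).trans
        ⟨fun hx => hx.1, fun hx => ⟨hx, (Set.ext_iff.1 hW x).2 trivial⟩⟩)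
      rw [this]
      exact lat_iSup U U (lat_self U)
    · have : img W = V := Opens.ext (Set.ext fun x => (himg W x).trans
        ⟨fun hx => (Set.ext_iff.1 hW x).1 hx.2,
          fun hx => ⟨lat_le U hV hx, (Set.ext_iff.1 hW x).2 hx⟩⟩)
      rw [this]
      exact hV
  have hle : ∀ W : Opens X', img W ≤ iSup U := fun W x hx => ((himg W x).1 hx).1
  haveI : TopCat.Sheaf.IsFlasque G :=
    { epi := fun {V W} i => by
        rw [AddCommGrpCat.epi_iff_surjective]
        intro s
        obtain ⟨t, ht⟩ := h _ (hle W.unop) (hlat W.unop) s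
        refine ⟨F.obj.map (homOfLE (hle V.unop)).op t, ?_⟩
        show (F.obj.map (homOfLE (hle V.unop)).op ≫ F.obj.map
          (W₀.isOpenEmbedding.functor.map ((Opens.map g).map i.unop)).op) t = s
        rw [← Functor.map_comp]
        exact ht }
  let U' : ι → Opens X' := fun i => ⟨(U i : Set X), Or.inr ⟨U i, lat_self U i, rfl⟩⟩
  have hinter : ∀ {q : ℕ} (i : Fin (q + 1) → ι), img (inter U' i) = inter U i := fun i => by
    ext x
    refine (himg _ x).trans ⟨fun hx => (mem_inter U).2 fun a => ?_,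
      fun hx => ⟨inter_le_iSup U i hx, ?_⟩⟩
    · exact (mem_inter U' (x := (x : X'))).1 hx.2 a
    · exact (mem_inter U' (x := (x : X'))).2 fun a => (mem_inter U).1 hx a
  refine exactSucc_congr (V := U') (Q := G.obj)
    (fun q i => ((F.obj.mapIso (eqToIso (hinter i)).op).addCommGroupIsoToAddEquiv :
      F.obj.obj (op (inter U i)) ≃+ F.obj.obj (op (img (inter U' i))))) (fun q i j x => ?_) q
    (exactSucc_of_flasque U' q G inferInstance)
  show (F.obj.map (homOfLE (inter_le_face U i j)).op ≫ F.obj.map (eqToHom (hinter i)).op) x =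
    (F.obj.map (eqToHom (hinter (i ∘ j.succAbove))).op ≫ F.obj.map
      (W₀.isOpenEmbedding.functor.map ((Opens.map g).map (homOfLE (inter_le_face U' i j)))).op) x
  rw [← Functor.map_comp, ← Functor.map_comp]
  rfl

/-- Cartan's criterion for a class of coverings. -/
theorem subsingleton_HU_of_cov (B : Set (Opens X))
    (Cov : ∀ (κ : Type u), (κ → Opens X) → Prop)
    (h1 : ∀ (κ : Type u) (V : κ → Opens X), Cov κ V →
      ∀ (p : ℕ) (a : Fin (p + 1) → κ), inter V a ∈ B)
    (h2 : ∀ W ∈ B, ∀ (κ : Type u) (V : κ → Opens X), iSup V = W →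
      ∃ (κ' : Type u) (V' : κ' → Opens X), Cov κ' V' ∧ iSup V' = W ∧ ∀ i, ∃ k, V' i ≤ V k)
    (F : CohTop.Ab X) (hF : ∀ κ V, Cov κ V → ∀ q, ExactSucc V F.obj q)
    (W : Opens X) (hW : W ∈ B) (n : ℕ) : Subsingleton (CohTop.HU F (n + 1) W) := by
  have hsurj : ∀ (F : CohTop.Ab X), (∀ κ V, Cov κ V → ExactSucc V F.obj 0) →
      ∀ {S : ShortComplex (CohTop.Ab X)}, S.ShortExact → S.X₁ = F → ∀ W ∈ B,
      Function.Surjective (S.g.hom.app (op W)) := by
    rintro F hF S hS rfl W hW
    refine app_surjective_of_exactSucc hS W fun V hV => ?_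
    obtain ⟨κ, V', hV', hsup, hle⟩ := h2 W hW W (fun x => V x ⊓ W)
      (le_antisymm (iSup_le fun x => inf_le_right)
        fun x hx => Opens.mem_iSup.2 ⟨⟨x, hx⟩, hV _, hx⟩)
    exact ⟨κ, V', hsup, fun i => (hle i).imp fun k hk => hk.trans inf_le_left, hF κ V' hV'⟩
  induction n generalizing F W with
  | zero =>
    have hS := cokerSeq_shortExact (Injective.ι F)
    have : Injective (cokerSeq (Injective.ι F)).X₂ := inferInstanceAs (Injective (Injective.under F))
    exact subsingleton_HU_one hS W (hsurj F (fun κ V h => hF κ V h 0) hS rfl W hW)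
  | succ n ih =>
    have hS := cokerSeq_shortExact (Injective.ι F)
    have : Injective (cokerSeq (Injective.ι F)).X₂ := inferInstanceAs (Injective (Injective.under F))
    have := ih (cokerSeq (Injective.ι F)).X₃ (fun κ V hV q => exactSucc_X₃ hS V
      (fun q i => hsurj F (fun κ V h => hF κ V h 0) hS rfl _ (h1 κ V hV q i))
      (fun q => hF κ V hV q) q) W hW
    exact subsingleton_HU_X₁ hS W n

end Groth.Agent.H30.CechTop
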