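import Groth.Prelude.Def_FSch3
import Mathlib.RingTheory.AdicCompletion.Completeness
import Mathlib.RingTheory.AdicCompletion.Algebra
import Mathlib.RingTheory.Localization.Ideal

/-!
# Quotients of completions of rings (helper30)
-/

universe u

namespace Groth.Agent.H30.Compl

open AdicCompletion

variable {S : Type u} [CommRing S] (I : _root_.Ideal S)

theorem evalₐ_eq_zero_iff (n : ℕ) (x : AdicCompletion I S) :
    evalₐ I n x = 0 ↔ eval I S n x = 0 := by
  have h : I ^ n ≤ I ^ n • (⊤ : _root_.Ideal S) := by simp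
  have h2 : I ^ n • (⊤ : _root_.Ideal S) ≤ I ^ n := by simp
  constructor
  · intro hx
    rw [← factor_evalₐ_eq_eval I x h, hx]
    exact map_zero _
  · intro hx
    rw [← factor_eval_eq_evalₐ I x h2, hx]
    exact map_zero _

/-- For a finitely generated ideal, the kernel of the `n`-th projection of the completion. -/
theorem ker_evalₐ (hI : I.FG) (n : ℕ) :
    RingHom.ker (evalₐ I n).toRingHom = (I.map (algebraMap S (AdicCompletion I S))) ^ n := by
  rw [← _root_.Ideal.map_pow]
  have h := pow_smul_top_eq_ker_eval (M := S) (n := n) hI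
  rw [_root_.Ideal.smul_top_eq_map] at h
  ext x
  rw [RingHom.mem_ker]
  change evalₐ I n x = 0 ↔ _
  rw [evalₐ_eq_zero_iff]
  exact (SetLike.ext_iff.mp h x).symm

/-- `Ŝ / Î^n = S / I^n`. -/
noncomputable def quotPowEquiv (hI : I.FG) (n : ℕ) :
    AdicCompletion I S ⧸ (I.map (algebraMap S (AdicCompletion I S))) ^ n ≃+* S ⧸ I ^ n :=
  (_root_.Ideal.quotEquivOfEq (ker_evalₐ I hI n).symm).trans
    (RingHom.quotientKerEquivOfSurjective (f := (evalₐ I n).toRingHom) (surjective_evalₐ I n))

theorem quotPowEquiv_algebraMap (hI : I.FG) (n : ℕ) (s : S) :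
    quotPowEquiv I hI n (_root_.Ideal.Quotient.mk _ (algebraMap S (AdicCompletion I S) s)) =
      _root_.Ideal.Quotient.mk _ s :=
  (evalₐ I n).commutes s

end Groth.Agent.H30.Compl
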