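import Groth.Agent.Lib.BigEt.Derived
import Mathlib.CategoryTheory.Abelian.RightDerived

/-!
# `R^q (Φ ≫ G) ≅ Φ ≫ R^q G`, naturally, for `Φ` exact preserving injectives
-/

set_option autoImplicit false

universe v₁ v₂ v₃ u₁ u₂ u₃

open CategoryTheory Limits
open Groth.Agent.Lib.BigEt.Derived

namespace Groth.Agent.H30.DerivedNat

variable {C : Type u₁} [Category.{v₁} C] [Abelian C] {D : Type u₂} [Category.{v₂} D] [Abelian D]
  {E : Type u₃} [Category.{v₃} E] [Abelian E] [EnoughInjectives C] [EnoughInjectives D]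

variable (Φ : C ⥤ D) [Φ.Additive] [PreservesFiniteLimits Φ] [PreservesFiniteColimits Φ]
  [Φ.PreservesInjectiveObjects] (G : D ⥤ E) [G.Additive] (q : ℕ)

lemma precompIso_naturality {Z W : C} (f : Z ⟶ W) :
    ((Φ ⋙ G).rightDerived q).map f ≫ (precompIso Φ G q W).hom =
      (precompIso Φ G q Z).hom ≫ (G.rightDerived q).map (Φ.map f) := by
  have comm : (InjectiveResolution.of Z).ι.f 0 ≫
      (InjectiveResolution.desc f (InjectiveResolution.of W) (InjectiveResolution.of Z)).f 0 =
        f ≫ (InjectiveResolution.of W).ι.f 0 :=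
    InjectiveResolution.desc_commutes_zero f _ _
  let φ := (Φ.mapHomologicalComplex (ComplexShape.up ℕ)).map
    (InjectiveResolution.desc f (InjectiveResolution.of W) (InjectiveResolution.of Z))
  have h1 := InjectiveResolution.isoRightDerivedObj_hom_naturality f _ _ _ comm (Φ ⋙ G) q
  have h2 : (mapRes (InjectiveResolution.of Z) Φ).ι.f 0 ≫ φ.f 0 =
      Φ.map f ≫ (mapRes (InjectiveResolution.of W) Φ).ι.f 0 := by
    have hc := (Φ.map_comp _ _).symm.trans ((congrArg Φ.map comm).trans (Φ.map_comp _ _))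
    simp only [mapRes, φ]
    exact (congrArg (· ≫ _) (Category.id_comp _)).trans
      (hc.trans (congrArg _ (Category.id_comp _).symm))
  have h3 := InjectiveResolution.isoRightDerivedObj_hom_naturality (Φ.map f)
    (mapRes (InjectiveResolution.of Z) Φ) (mapRes (InjectiveResolution.of W) Φ) φ h2 G q
  change _ ≫ ((InjectiveResolution.of W).isoRightDerivedObj (Φ ⋙ G) q).hom ≫
      ((mapRes (InjectiveResolution.of W) Φ).isoRightDerivedObj G q).inv =
    (((InjectiveResolution.of Z).isoRightDerivedObj (Φ ⋙ G) q).hom ≫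
      ((mapRes (InjectiveResolution.of Z) Φ).isoRightDerivedObj G q).inv) ≫ _
  refine (Category.assoc _ _ _).symm.trans ((congrArg (· ≫ _) h1).trans ?_)
  refine (Category.assoc _ _ _).trans ((congrArg _ ?_).trans (Category.assoc _ _ _).symm)
  refine (cancel_mono ((mapRes (InjectiveResolution.of W) Φ).isoRightDerivedObj G q).hom).1 ?_
  refine (Category.assoc _ _ _).trans ((congrArg _ (Iso.inv_hom_id _)).trans
    ((Category.comp_id _).trans ?_))
  refine Eq.trans ?_ (Category.assoc _ _ _).symm
  refine Eq.trans ?_ (congrArg _ h3).symm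
  exact (Iso.inv_hom_id_assoc _ _).symm

/-- `R^q (Φ ≫ G) ≅ Φ ≫ R^q G`, natural. -/
noncomputable def precompNatIso : (Φ ⋙ G).rightDerived q ≅ Φ ⋙ G.rightDerived q :=
  NatIso.ofComponents (fun Z => precompIso Φ G q Z) (fun f => precompIso_naturality Φ G q f)

end Groth.Agent.H30.DerivedNat
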