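import Mathlib.CategoryTheory.Abelian.RightDerived
import Mathlib.Algebra.Homology.HomologySequenceLemmas
import Mathlib.Algebra.Homology.HomologicalComplexAbelian

/-!
# The connecting map of a sequence of functors short exact on injectives

For `G ⟶ H ⟶ K` short exact on injectives: `δ n : R^n K ⟶ R^{n+1} G`, natural, with
`R^n H → R^n K → R^{n+1} G → R^{n+1} H` exact.
-/

set_option autoImplicit false

universe v v' u u'

open CategoryTheory Limits

namespace Groth.Agent.H30.DerivedSES

variable {C : Type u} [Category.{v} C] [Abelian C] [HasInjectiveResolutions C]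
  {D : Type u'} [Category.{v'} D] [Abelian D] {G H K : C ⥤ D} [G.Additive] [H.Additive] [K.Additive]
  (f : G ⟶ H) (g : H ⟶ K) (w : ∀ Z : C, f.app Z ≫ g.app Z = 0)
  (hS : ∀ I : C, Injective I → (ShortComplex.mk (f.app I) (g.app I) (w I)).ShortExact)

/-- The short complex of complexes on a resolution. -/
noncomputable abbrev cx (L : CochainComplex C ℕ) : ShortComplex (CochainComplex D ℕ) :=
  ShortComplex.mk ((NatTrans.mapHomologicalComplex f _).app L)
    ((NatTrans.mapHomologicalComplex g _).app L) (by ext n; exact w _)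

omit [HasInjectiveResolutions C] in
include hS in
lemma cx_shortExact {Z : C} (P : InjectiveResolution Z) : (cx f g w P.cocomplex).ShortExact :=
  HomologicalComplex.shortExact_of_degreewise_shortExact _ fun n => hS _ (P.injective n)

/-- The connecting map at an object. -/
noncomputable def δApp (n : ℕ) (Z : C) :
    (K.rightDerived n).obj Z ⟶ (G.rightDerived (n + 1)).obj Z :=
  ((injectiveResolution Z).isoRightDerivedObj K n).hom ≫
    (cx_shortExact f g w hS (injectiveResolution Z)).δ n (n + 1) rfl ≫
      ((injectiveResolution Z).isoRightDerivedObj G (n + 1)).inv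

lemma δApp_naturality (n : ℕ) {Z W : C} (a : Z ⟶ W) :
    (K.rightDerived n).map a ≫ δApp f g w hS n W =
      δApp f g w hS n Z ≫ (G.rightDerived (n + 1)).map a := by
  let φ := InjectiveResolution.desc a (injectiveResolution W) (injectiveResolution Z)
  have comm : (injectiveResolution Z).ι.f 0 ≫ φ.f 0 = a ≫ (injectiveResolution W).ι.f 0 :=
    InjectiveResolution.desc_commutes_zero a _ _
  let ψ : cx f g w (injectiveResolution Z).cocomplex ⟶ cx f g w (injectiveResolution W).cocomplex :=
    { τ₁ := (G.mapHomologicalComplex _).map φ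
      τ₂ := (H.mapHomologicalComplex _).map φ
      τ₃ := (K.mapHomologicalComplex _).map φ
      comm₁₂ := ((NatTrans.mapHomologicalComplex f _).naturality φ)
      comm₂₃ := ((NatTrans.mapHomologicalComplex g _).naturality φ) }
  have hδ : (cx_shortExact f g w hS (injectiveResolution Z)).δ n (n + 1) rfl ≫
      HomologicalComplex.homologyMap ((G.mapHomologicalComplex (ComplexShape.up ℕ)).map φ) (n + 1) =
      HomologicalComplex.homologyMap ((K.mapHomologicalComplex (ComplexShape.up ℕ)).map φ) n ≫
        (cx_shortExact f g w hS (injectiveResolution W)).δ n (n + 1) rfl :=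
    HomologicalComplex.HomologySequence.δ_naturality ψ (cx_shortExact f g w hS _)
      (cx_shortExact f g w hS _) n (n + 1) rfl
  rw [δApp, δApp, InjectiveResolution.isoRightDerivedObj_hom_naturality_assoc a _ _ φ comm K n]
  refine Eq.trans ?_ (Category.assoc _ _ _).symm
  refine congrArg _ ?_
  refine Eq.trans ?_ (Category.assoc _ _ _).symm
  refine Eq.trans ?_ (congrArg _
    (InjectiveResolution.isoRightDerivedObj_inv_naturality a _ _ φ comm G (n + 1))).symm
  exact (Category.assoc _ _ _).symm.trans ((congrArg (· ≫ ((injectiveResolution W).isoRightDerivedObj G (n + 1)).inv)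
      hδ.symm).trans (Category.assoc _ _ _))

/-- The connecting map `R^n K ⟶ R^{n+1} G`. -/
noncomputable def δ (n : ℕ) : K.rightDerived n ⟶ G.rightDerived (n + 1) where
  app := δApp f g w hS n
  naturality _ _ a := δApp_naturality f g w hS n a

lemma rightDerived_comp_δ (n : ℕ) (Z : C) :
    (NatTrans.rightDerived g n).app Z ≫ (δ f g w hS n).app Z = 0 := by
  rw [InjectiveResolution.rightDerived_app_eq g (injectiveResolution Z) n]
  simp only [δ, δApp, Category.assoc]
  refine (congrArg _ (congrArg _ (Iso.inv_hom_id_assoc _ _))).trans ?_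
  refine (congrArg _ ((Category.assoc _ _ _).symm.trans
    ((congrArg (· ≫ _) ((cx_shortExact f g w hS (injectiveResolution Z)).comp_δ n (n + 1) rfl)).trans
      zero_comp))).trans comp_zero

lemma exact₃ (n : ℕ) (Z : C) :
    (ShortComplex.mk _ _ (rightDerived_comp_δ f g w hS n Z)).Exact := by
  refine ShortComplex.exact_of_iso ?_
    ((cx_shortExact f g w hS (injectiveResolution Z)).homology_exact₃ n (n + 1) rfl)
  refine ShortComplex.isoMk ((injectiveResolution Z).isoRightDerivedObj H n).symm
    ((injectiveResolution Z).isoRightDerivedObj K n).symm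
    ((injectiveResolution Z).isoRightDerivedObj G (n + 1)).symm ?_ ?_
  · simp only [Iso.symm_hom]
    rw [InjectiveResolution.rightDerived_app_eq g (injectiveResolution Z) n]
    exact Iso.inv_hom_id_assoc _ _
  · simp only [Iso.symm_hom, δ, δApp]
    exact Iso.inv_hom_id_assoc _ _

lemma epi_δ (n : ℕ) (Z : C) (h : IsZero ((H.rightDerived (n + 1)).obj Z)) :
    Epi ((δ f g w hS n).app Z) := by
  have h' : IsZero (((H.mapHomologicalComplex (ComplexShape.up ℕ)).obj
      (injectiveResolution Z).cocomplex).homology (n + 1)) :=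
    h.of_iso ((injectiveResolution Z).isoRightDerivedObj H (n + 1)).symm
  have key : ∀ {A B A' B' : D} (i : A ≅ A') (j : B ≅ B') (m : A' ⟶ B'), Epi m → Epi (i.hom ≫ m ≫ j.inv) :=
    fun i j m hm => inferInstance
  exact key _ _ _ ((cx_shortExact f g w hS (injectiveResolution Z)).epi_δ n (n + 1) rfl h')

lemma mono_δ (n : ℕ) (Z : C) (h : IsZero ((H.rightDerived n).obj Z)) :
    Mono ((δ f g w hS n).app Z) := by
  have h' : IsZero (((H.mapHomologicalComplex (ComplexShape.up ℕ)).obj
      (injectiveResolution Z).cocomplex).homology n) :=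
    h.of_iso ((injectiveResolution Z).isoRightDerivedObj H n).symm
  have key : ∀ {A B A' B' : D} (i : A ≅ A') (j : B ≅ B') (m : A' ⟶ B'), Mono m → Mono (i.hom ≫ m ≫ j.inv) :=
    fun i j m hm => inferInstance
  exact key _ _ _ ((cx_shortExact f g w hS (injectiveResolution Z)).mono_δ n (n + 1) rfl h')

/-- `R^n K ≅ R^{n+1} G` when `R^n H = R^{n+1} H = 0`. -/
noncomputable def δIso (n : ℕ) (h₀ : ∀ Z, IsZero ((H.rightDerived n).obj Z))
    (h₁ : ∀ Z, IsZero ((H.rightDerived (n + 1)).obj Z)) :
    K.rightDerived n ≅ G.rightDerived (n + 1) :=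
  haveI : ∀ Z, IsIso ((δ f g w hS n).app Z) := fun Z => by
    haveI := mono_δ f g w hS n Z (h₀ Z)
    haveI := epi_δ f g w hS n Z (h₁ Z)
    exact isIso_of_mono_of_epi _
  haveI := NatIso.isIso_of_isIso_app (δ f g w hS n)
  asIso (δ f g w hS n)

omit hS in
lemma toRightDerivedZero_naturality {A B : C ⥤ D} [A.Additive] [B.Additive] (α : A ⟶ B) :
    α ≫ B.toRightDerivedZero = A.toRightDerivedZero ≫ NatTrans.rightDerived α 0 := by
  ext Z
  let P := injectiveResolution Z
  let a := (NatTrans.mapHomologicalComplex α (ComplexShape.up ℕ)).app P.cocomplex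
  have h1 : α.app Z ≫ P.toRightDerivedZero' B =
      P.toRightDerivedZero' A ≫ HomologicalComplex.cyclesMap a 0 := by
    rw [← cancel_mono (HomologicalComplex.iCycles _ _), Category.assoc, Category.assoc,
      HomologicalComplex.cyclesMap_i]
    erw [InjectiveResolution.toRightDerivedZero'_comp_iCycles,
      InjectiveResolution.toRightDerivedZero'_comp_iCycles_assoc]
    exact (α.naturality _).symm
  rw [NatTrans.comp_app, NatTrans.comp_app, P.toRightDerivedZero_eq, P.toRightDerivedZero_eq,
    InjectiveResolution.rightDerived_app_eq α P, reassoc_of% h1]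
  have h2 : HomologicalComplex.cyclesMap a 0 ≫ (CochainComplex.isoHomologyπ₀ _).hom =
      (CochainComplex.isoHomologyπ₀ _).hom ≫ HomologicalComplex.homologyMap a 0 := by
    simp only [CochainComplex.isoHomologyπ₀, HomologicalComplex.isoHomologyπ_hom]
    exact (HomologicalComplex.homologyπ_naturality a 0).symm
  simp only [Category.assoc]
  refine congrArg (fun t => P.toRightDerivedZero' A ≫ t) ?_
  refine Eq.trans ?_ (congrArg _ (Iso.inv_hom_id_assoc _ _)).symm
  exact (Category.assoc _ _ _).symm.trans ((congrArg (· ≫ _) h2).trans (Category.assoc _ _ _))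

/-- `R¹ G ≅ coker g` when `H` is exact enough. -/
noncomputable def cokernelIso [PreservesFiniteLimits H] [PreservesFiniteLimits K]
    (h₁ : ∀ Z, IsZero ((H.rightDerived 1).obj Z)) : cokernel g ≅ G.rightDerived 1 :=
  let d : K ⟶ G.rightDerived 1 := K.toRightDerivedZero ≫ δ f g w hS 0
  have hgd : g ≫ d = 0 := by
    ext Z
    show g.app Z ≫ K.toRightDerivedZero.app Z ≫ (δ f g w hS 0).app Z = 0
    rw [← Category.assoc, ← NatTrans.comp_app, toRightDerivedZero_naturality, NatTrans.comp_app,
      Category.assoc, rightDerived_comp_δ, comp_zero]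
  have hc : IsColimit (CokernelCofork.ofπ d hgd) := by
    refine evaluationJointlyReflectsColimits _ fun Z => ?_
    refine (CokernelCofork.isColimitMapCoconeEquiv _ ((evaluation C D).obj Z)).symm ?_
    have e : (ShortComplex.mk _ _ (rightDerived_comp_δ f g w hS 0 Z)) ≅
        ShortComplex.mk (g.app Z) (d.app Z)
          (show (g ≫ d).app Z = 0 by rw [hgd]; rfl) :=
      ShortComplex.isoMk (H.rightDerivedZeroIsoSelf.app Z) (K.rightDerivedZeroIsoSelf.app Z)
        (Iso.refl _) (by
          have := congrArg (fun t => t.app Z) (toRightDerivedZero_naturality g)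
          simp only [NatTrans.comp_app] at this
          show H.rightDerivedZeroIsoSelf.hom.app Z ≫ g.app Z =
            (NatTrans.rightDerived g 0).app Z ≫ K.rightDerivedZeroIsoSelf.hom.app Z
          rw [← cancel_mono (K.toRightDerivedZero.app Z), Category.assoc, Category.assoc, this,
            Functor.rightDerivedZeroIsoSelf_hom_inv_id_app,
            Functor.rightDerivedZeroIsoSelf_hom_inv_id_app_assoc, Category.comp_id]) (by
          show K.rightDerivedZeroIsoSelf.hom.app Z ≫ K.toRightDerivedZero.app Z ≫ _ = _ ≫ 𝟙 _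
          rw [Functor.rightDerivedZeroIsoSelf_hom_inv_id_app_assoc, Category.comp_id])
    have hex := ShortComplex.exact_of_iso e (exact₃ f g w hS 0 Z)
    haveI := epi_δ f g w hS 0 Z (h₁ Z)
    haveI : Epi (d.app Z) := by
      rw [NatTrans.comp_app]
      exact epi_comp _ _
    exact hex.gIsCokernel
  (cokernelIsCokernel g).coconePointUniqueUpToIso hc

end Groth.Agent.H30.DerivedSES
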