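import Groth.Agent.H30.RightAcyc
import Groth.Agent.Lib.ZarCoh.Compare
import Groth.Agent.Lib.Cech.Compare
import Mathlib.Topology.Sheaves.LocallySurjective

/-!
# Cohomology of abelian sheaves and higher direct images from cycles of an injective resolution

* `hPreIso`: the cohomology presheaf is the cokernel of `I^k → Z^{k+1}` on presheaves;
* `rightDerivedForgetIso`, `rpushSheafifyIso`;
* `hPushEquiv`: if `R^{>0} f_* F = 0` then `H^n(V, f_* F) = H^n(f⁻¹ V, F)`;
* `epi_push_of_isClosedEmbedding`: direct image along a closed embedding is exact.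
-/

set_option autoImplicit false
set_option linter.style.haveILetI false

universe u

open CategoryTheory Limits TopologicalSpace Opposite Abelian
open Groth.Agent.Lib.EtJ.RightAcyclic
open Groth.Agent.Lib.ZarCoh.Basic Groth.Agent.Lib.ZarCoh.Compare
open Groth.Agent.H30.RightAcyc

namespace Groth.Agent.H30.TopCoh

variable {X Y : TopCat.{u}} (f : X ⟶ Y)

instance push_preservesFiniteLimits : PreservesFiniteLimits (CohTop.push f) :=
  haveI : (CohTop.push f).IsRightAdjoint := (ppAdj f).isRightAdjoint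
  haveI : PreservesLimitsOfSize.{0, 0} (CohTop.push f) := (ppAdj f).rightAdjoint_preservesLimits
  PreservesLimitsOfSize.preservesFiniteLimits (CohTop.push f)

instance push_preservesInjectiveObjects : (CohTop.push f).PreservesInjectiveObjects :=
  haveI : (CohTop.pull f).PreservesMonomorphisms :=
    preservesMonomorphisms_of_preservesLimitsOfShape _
  Functor.preservesInjectiveObjects_of_adjunction_of_preservesMonomorphisms (ppAdj f)

/-- `R^{k+1} f_*` vanishes on `F` when the images of the resolution are surjective. -/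
theorem isZero_rpush (F : CohTop.Ab X) (k : ℕ)
    (h : Epi ((CohTop.push f).map (seq (injectiveResolution F) k).g)) :
    IsZero ((CohTop.Rpush f (k + 1)).obj F) :=
  isZero_rightDerived (injectiveResolution F) (CohTop.push f) k h

section Presheaf

variable {F : CohTop.Ab X} (P : InjectiveResolution F)

/-- `Γ(U, Z^k) → H^k(U, F)`. -/
noncomputable def toHU (R : InjChain F) (k : ℕ) (U : Opens X) :
    (R.cyc k).obj.obj (op U) →+ Ext.{u} (Zs.obj U) F k :=
  (toExt R (Zs.obj U) k).comp
    (AddEquiv.mk' (homEquiv U (R.cyc k)) homEquiv_add).symm.toAddMonoidHom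

lemma toHU_apply (R : InjChain F) (k : ℕ) (U : Opens X) (s : (R.cyc k).obj.obj (op U)) :
    toHU R k U s = toExt R (Zs.obj U) k ((homEquiv U (R.cyc k)).symm s) := rfl

lemma toHU_res (R : InjChain F) (k : ℕ) {U V : Opens X} (i : V ⟶ U)
    (s : (R.cyc k).obj.obj (op U)) :
    toHU R k V ((R.cyc k).obj.map i.op s) =
      (Ext.mk₀ (Zs.map i)).comp (toHU R k U s) (zero_add k) := by
  rw [toHU_apply, toHU_apply, ← toExt_precomp]
  congr 1
  apply (homEquiv V (R.cyc k)).injective
  rw [homEquiv_res, Equiv.apply_symm_apply, Equiv.apply_symm_apply]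

lemma toHU_surjective (R : InjChain F) (k : ℕ) (U : Opens X) :
    Function.Surjective (toHU R k U) :=
  (toExt_surjective R _ k).comp (AddEquiv.surjective _)

lemma toHU_zero_bijective (R : InjChain F) (U : Opens X) : Function.Bijective (toHU R 0 U) :=
  (toExt_zero_bijective R _).comp (AddEquiv.bijective _)

lemma toHU_succ_eq_zero_iff (R : InjChain F) (k : ℕ) (U : Opens X)
    (s : (R.cyc (k + 1)).obj.obj (op U)) :
    toHU R (k + 1) U s = 0 ↔ ∃ t, (R.p k).hom.app (op U) t = s := by
  rw [toHU_apply, toExt_succ_eq_zero_iff]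
  constructor
  · rintro ⟨i, hi⟩
    refine ⟨homEquiv U _ i, ?_⟩
    rw [← homEquiv_comp, hi, Equiv.apply_symm_apply]
  · rintro ⟨t, ht⟩
    refine ⟨(homEquiv U _).symm t, (homEquiv U _).injective ?_⟩
    rw [homEquiv_comp, Equiv.apply_symm_apply, Equiv.apply_symm_apply, ht]

/-- The cohomology presheaf, explicitly. -/
noncomputable def hP (F : CohTop.Ab X) (k : ℕ) : (Opens X)ᵒᵖ ⥤ AddCommGrpCat.{u} :=
  ((Zs (X := X)).op ⋙ Abelian.extFunctor.{u} k).flip.obj F

/-- It is the cohomology presheaf. -/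
noncomputable def hPIso (F : CohTop.Ab X) (k : ℕ) : hP F k ≅ Sheaf.cohomologyPresheaf.{u} F k :=
  Iso.refl _

/-- The natural transformation `Γ(-, Z^k) ⟶ H^k(-, F)`. -/
noncomputable def Φ (k : ℕ) :
    (sheafToPresheaf (Opens.grothendieckTopology X) AddCommGrpCat.{u}).obj ((ofRes P).cyc k) ⟶
      hP F k where
  app U := AddCommGrpCat.ofHom (toHU (ofRes P) k U.unop)
  naturality {U V} i := by
    ext s
    exact toHU_res (ofRes P) k i.unop s

/-- The cohomology presheaf in degree zero. -/
noncomputable def hPreZeroIso :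
    (sheafToPresheaf (Opens.grothendieckTopology X) AddCommGrpCat.{u}).obj ((ofRes P).cyc 0) ≅
      hP F 0 :=
  haveI : ∀ U, IsIso ((Φ P 0).app U) := fun U =>
    (ConcreteCategory.isIso_iff_bijective _).2 (toHU_zero_bijective (ofRes P) U.unop)
  haveI := NatIso.isIso_of_isIso_app (Φ P 0)
  asIso (Φ P 0)

lemma map_g_Φ (k : ℕ) :
    (sheafToPresheaf (Opens.grothendieckTopology X) AddCommGrpCat.{u}).map (seq P k).g ≫ Φ P (k + 1)
      = 0 := by
  ext U s
  exact (toHU_succ_eq_zero_iff (ofRes P) k U.unop _).2 ⟨s, rfl⟩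

lemma isIso_desc (k : ℕ) :
    IsIso (cokernel.desc _ (Φ P (k + 1)) (map_g_Φ P k)) := by
  let φ := (sheafToPresheaf (Opens.grothendieckTopology X) AddCommGrpCat.{u}).map (seq P k).g
  let ψ := cokernel.desc φ (Φ P (k + 1)) (map_g_Φ P k)
  haveI : ∀ U, IsIso (ψ.app U) := fun U => by
    have hπ : Function.Surjective ((cokernel.π φ).app U) :=
      (AddCommGrpCat.epi_iff_surjective _).1 inferInstance
    have hc : ∀ s, ψ.app U ((cokernel.π φ).app U s) = toHU (ofRes P) (k + 1) U.unop s := fun s => by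
      rw [← ConcreteCategory.comp_apply, ← NatTrans.comp_app, cokernel.π_desc]
      rfl
    refine (ConcreteCategory.isIso_iff_bijective _).2 ⟨?_, fun y => ?_⟩
    · refine (injective_iff_map_eq_zero (ψ.app U).hom).2 fun x hx => ?_
      obtain ⟨s, rfl⟩ := hπ x
      obtain ⟨t, ht⟩ := (toHU_succ_eq_zero_iff (ofRes P) k U.unop s).1 ((hc s).symm.trans hx)
      rw [← ht]
      change ((φ ≫ cokernel.π φ).app U) t = 0
      rw [cokernel.condition]
      rfl
    · obtain ⟨s, rfl⟩ := toHU_surjective (ofRes P) (k + 1) U.unop y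
      exact ⟨_, hc s⟩
  exact NatIso.isIso_of_isIso_app ψ

/-- The cohomology presheaf as a cokernel of presheaves of sections. -/
noncomputable def hPreIso (k : ℕ) :
    cokernel ((sheafToPresheaf (Opens.grothendieckTopology X) AddCommGrpCat.{u}).map (seq P k).g) ≅
      hP F (k + 1) :=
  @asIso _ _ _ _ _ (isIso_desc P k)

/-- The derived functors of the inclusion into presheaves are the cohomology presheaves. -/
theorem nonempty_rightDerivedForgetIso (F : CohTop.Ab X) (p : ℕ) :
    Nonempty (((sheafToPresheaf (Opens.grothendieckTopology X) AddCommGrpCat.{u}).rightDerived p).obj F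
      ≅ Sheaf.cohomologyPresheaf.{u} F p) :=
  match p with
  | 0 => ⟨(sheafToPresheaf _ _).rightDerivedZeroIsoSelf.app F ≪≫
      (sheafToPresheaf _ _).mapIso (isoCyc₀ (injectiveResolution F)) ≪≫
      hPreZeroIso (injectiveResolution F) ≪≫ hPIso F 0⟩
  | k + 1 => ⟨isoCokernel (injectiveResolution F) _ k ≪≫ hPreIso (injectiveResolution F) k ≪≫ hPIso F (k + 1)⟩

/-- Sheafification inverts the inclusion into presheaves. -/
noncomputable def shIso : sheafToPresheaf (Opens.grothendieckTopology Y) AddCommGrpCat.{u} ⋙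
    presheafToSheaf (Opens.grothendieckTopology Y) AddCommGrpCat.{u} ≅ 𝟭 _ :=
  asIso (sheafificationAdjunction (Opens.grothendieckTopology Y) AddCommGrpCat.{u}).counit

/-- `R^i f_* F` is the sheafification of `V ↦ H^i(f⁻¹ V, F)`. -/
theorem nonempty_rpushSheafifyIso (F : CohTop.Ab X) (i : ℕ) :
    Nonempty ((CohTop.Rpush f i).obj F ≅
      (presheafToSheaf (Opens.grothendieckTopology Y) AddCommGrpCat.{u}).obj
        ((Opens.map f).op ⋙ Sheaf.cohomologyPresheaf.{u} F i)) :=
  let P := injectiveResolution F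
  let L := presheafToSheaf (Opens.grothendieckTopology Y) AddCommGrpCat.{u}
  let E := sheafToPresheaf (Opens.grothendieckTopology X) AddCommGrpCat.{u}
  let W := (Functor.whiskeringLeft (Opens Y)ᵒᵖ (Opens X)ᵒᵖ AddCommGrpCat.{u}).obj (Opens.map f).op
  match i with
  | 0 => ⟨(CohTop.push f).rightDerivedZeroIsoSelf.app F ≪≫
      ((shIso (Y := Y)).app ((CohTop.push f).obj F)).symm ≪≫
      L.mapIso (W.mapIso (E.mapIso (isoCyc₀ P) ≪≫ hPreZeroIso P ≪≫ hPIso F 0))⟩
  | k + 1 =>
    haveI : PreservesFiniteColimits W := inferInstance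
    ⟨isoCokernel P (CohTop.push f) k ≪≫
      cokernel.mapIso _ _ ((shIso (Y := Y)).app _).symm ((shIso (Y := Y)).app _).symm
        ((shIso (Y := Y)).inv.naturality ((CohTop.push f).map (seq P k).g)) ≪≫
      (PreservesCokernel.iso L (W.map (E.map (seq P k).g))).symm ≪≫
      L.mapIso ((PreservesCokernel.iso W (E.map (seq P k).g)).symm ≪≫ W.mapIso (hPreIso P k ≪≫ hPIso F (k + 1)))⟩

end Presheaf

section Push

variable (F : CohTop.Ab X)

/-- If `R^{>0} f_* F = 0`, cohomology of `f_* F` is cohomology of `F` on preimages. -/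
theorem nonempty_hPushEquiv (h : ∀ q : ℕ, IsZero ((CohTop.Rpush f (q + 1)).obj F)) (V : Opens Y)
    (n : ℕ) :
    Nonempty (Ext.{u} (Zs.obj ((Opens.map f).obj V)) F n ≃+
      Ext.{u} (Zs.obj V) ((CohTop.push f).obj F) n) := by
  let R := ofRes (injectiveResolution F)
  have hR := fun k => seq_map_shortExact (injectiveResolution F) (CohTop.push f)
    (fun q hq => by obtain ⟨q, rfl⟩ := Nat.exists_eq_succ_of_ne_zero hq.ne'; exact h q) k
  let R' := R.map (CohTop.push f) hR
  refine ⟨Groth.Agent.Lib.Cech.Compare.equivOfKerEq (toHU R n ((Opens.map f).obj V))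
    (toHU R' n V) (toHU_surjective R n _) (toHU_surjective R' n _) ?_⟩
  ext s
  change toHU R n ((Opens.map f).obj V) s = 0 ↔ toHU R' n V s = 0
  cases n with
  | zero =>
    exact (map_eq_zero_iff _ (toHU_zero_bijective R _).1).trans
      (map_eq_zero_iff (toHU R' 0 V) (toHU_zero_bijective R' _).1).symm
  | succ k =>
    rw [toHU_succ_eq_zero_iff]
    exact (toHU_succ_eq_zero_iff R' k V s).symm

theorem nonempty_hPushEquiv_top (h : ∀ q : ℕ, IsZero ((CohTop.Rpush f (q + 1)).obj F)) (n : ℕ) :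
    Nonempty (CohTop.H F n ≃+ CohTop.H ((CohTop.push f).obj F) n) := by
  obtain ⟨e⟩ := nonempty_hPushEquiv f F h ⊤ n
  exact ⟨(hTop F n).trans (e.trans (hTop ((CohTop.push f).obj F) n).symm)⟩

/-- `f_*` of a flasque sheaf is acyclic. -/
theorem isZero_rpush_of_flasque [TopCat.Sheaf.IsFlasque F] (q : ℕ) :
    IsZero ((CohTop.Rpush f (q + 1)).obj F) := by
  refine isZero_rpush f F q ?_
  refine (TopCat.Sheaf.isLocallySurjective_iff_epi _).1
    ((TopCat.Presheaf.isLocallySurjective_iff _).2 fun U s x hx ↦ ?_)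
  refine ⟨U, le_rfl, ?_, hx⟩
  let R := ofRes (injectiveResolution F)
  have h0 : toHU R (q + 1) ((Opens.map f).obj U) s = 0 :=
    (HU_flasque F ((Opens.map f).obj U) q).elim _ _
  obtain ⟨t, ht⟩ := (toHU_succ_eq_zero_iff R q _ s).1 h0
  refine ⟨t, ht.trans ?_⟩
  exact (ConcreteCategory.congr_hom (((CohTop.push f).obj _).obj.map_id (op U)) s).symm

end Push

section Closed

variable {f} (hf : Topology.IsClosedEmbedding f)

include hf in
/-- Direct image along a closed embedding preserves epimorphisms. -/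
theorem epi_push_of_isClosedEmbedding {A B : CohTop.Ab X} (φ : A ⟶ B) [Epi φ] :
    Epi ((CohTop.push f).map φ) := by
  refine (TopCat.Sheaf.isLocallySurjective_iff_epi _).1
    ((TopCat.Presheaf.isLocallySurjective_iff _).2 fun U s y hy ↦ ?_)
  by_cases hyf : y ∈ Set.range f
  · obtain ⟨x, rfl⟩ := hyf
    obtain ⟨W, hWU, ⟨t, ht⟩, hxW⟩ := (TopCat.Presheaf.isLocallySurjective_iff φ.hom).1
      ((TopCat.Sheaf.isLocallySurjective_iff_epi φ).2 (show Epi φ from ‹Epi φ›)) ((Opens.map f).obj U) s x hy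
    obtain ⟨O, hO, hOW⟩ := hf.isInducing.isOpen_iff.1 W.2
    let V : Opens Y := ⟨O, hO⟩ ⊓ U
    have hVW : (Opens.map f).obj V ≤ W := fun z hz => by
      exact (Set.ext_iff.1 hOW z).1 hz.1
    refine ⟨V, fun z hz => hz.2, ⟨A.obj.map (homOfLE hVW).op t, ?_⟩, ⟨?_, hy⟩⟩
    · refine (congr($(φ.hom.naturality (homOfLE hVW).op) t)).trans ?_
      refine (congrArg (B.obj.map (homOfLE hVW).op) ht).trans ?_
      show (B.obj.map (homOfLE hWU).op ≫ B.obj.map (homOfLE hVW).op) s = _
      rw [← Functor.map_comp]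
      rfl
    · exact (Set.ext_iff.1 hOW x).2 hxW
  · let V : Opens Y := ⟨(Set.range f)ᶜ, hf.isClosed_range.isOpen_compl⟩ ⊓ U
    have hV : (Opens.map f).obj V = ⊥ := eq_bot_iff.2 fun z hz => (hz.1 ⟨z, rfl⟩).elim
    refine ⟨V, fun z hz => hz.2, ⟨0, ?_⟩, ⟨hyf, hy⟩⟩
    refine TopCat.Presheaf.section_ext (C := AddCommGrpCat.{u}) (X := X) B
      ((Opens.map f).obj V) _ _ fun z hz => ?_
    exact (hV.le hz).elim

include hf in
theorem isZero_rpush_of_isClosedEmbedding (F : CohTop.Ab X) (q : ℕ) :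
    IsZero ((CohTop.Rpush f (q + 1)).obj F) :=
  haveI := (seq_shortExact (injectiveResolution F) q).epi_g
  isZero_rpush f F q (epi_push_of_isClosedEmbedding hf _)

end Closed

end Groth.Agent.H30.TopCoh
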