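import Groth.Agent.H30.TopCoh
import Groth.Agent.Lib.Cech.Sections

/-!
# If the higher direct images are acyclic, `H^q(X, F) = Γ(Y, R^q f_* F)`
-/

set_option autoImplicit false
set_option linter.style.haveILetI false

universe u

open CategoryTheory Limits TopologicalSpace Opposite Abelian
open Groth.Agent.Lib.EtJ.RightAcyclic Groth.Agent.Lib.ZarCoh.Basic Groth.Agent.Lib.ZarCoh.Compare
open Groth.Agent.H30.RightAcyc Groth.Agent.H30.TopCoh

namespace Groth.Agent.H30.LerayBase

variable {Y : TopCat.{u}}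

/-- All higher cohomology on the whole space vanishes. -/
def Acyc (G : CohTop.Ab Y) : Prop :=
  ∀ p : ℕ, Subsingleton (Ext.{u} (Zs.obj (⊤ : Opens Y)) G (p + 1))

lemma acyc_of_H (G : CohTop.Ab Y) (h : ∀ p, Subsingleton (CohTop.H G (p + 1))) : Acyc G :=
  fun p => haveI := h p; (hTop G (p + 1)).symm.toEquiv.subsingleton

lemma Acyc.of_iso {G G' : CohTop.Ab Y} (e : G ≅ G') (h : Acyc G) : Acyc G' := fun p => by
  refine subsingleton_of_forall_eq 0 fun x => ?_
  have h0 : x.comp (Ext.mk₀ e.inv) (add_zero _) = 0 := (h p).elim _ _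
  calc x = (x.comp (Ext.mk₀ e.inv) (add_zero _)).comp (Ext.mk₀ e.hom) (add_zero _) := by
        rw [Ext.comp_assoc_of_second_deg_zero, Ext.mk₀_comp_mk₀, Iso.inv_hom_id, Ext.comp_mk₀_id]
    _ = 0 := by rw [h0, Ext.zero_comp]

lemma acyc_X₂ {S : ShortComplex (CohTop.Ab Y)} (hS : S.ShortExact) (h₁ : Acyc S.X₁)
    (h₃ : Acyc S.X₃) : Acyc S.X₂ := fun p => by
  refine subsingleton_of_forall_eq 0 fun x => ?_
  obtain ⟨y, rfl⟩ := Ext.covariant_sequence_exact₂ _ hS x ((h₃ p).elim _ _)
  rw [(h₁ p).elim y 0, Ext.zero_comp]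

lemma acyc_X₃ {S : ShortComplex (CohTop.Ab Y)} (hS : S.ShortExact) (h₁ : Acyc S.X₁)
    (h₂ : Acyc S.X₂) : Acyc S.X₃ := fun p => by
  refine subsingleton_of_forall_eq 0 fun x => ?_
  obtain ⟨y, rfl⟩ := Ext.covariant_sequence_exact₃ _ hS x rfl ((h₁ (p + 1)).elim _ _)
  rw [(h₂ p).elim y 0, Ext.zero_comp]

variable {X : TopCat.{u}} (f : X ⟶ Y) {F : CohTop.Ab X} (P : InjectiveResolution F)

/-- `0 → f_* Z^k → f_* I^k → coker → 0`. -/
noncomputable abbrev seqA (k : ℕ) : ShortComplex (CohTop.Ab Y) :=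
  ShortComplex.mk ((CohTop.push f).map (seq P k).f) (cokernel.π _) (cokernel.condition _)

/-- The comparison `coker → f_* Z^{k+1}`. -/
noncomputable abbrev jmap (k : ℕ) :
    cokernel ((CohTop.push f).map (seq P k).f) ⟶ (CohTop.push f).obj (seq P k).X₃ :=
  cokernel.desc _ ((CohTop.push f).map (seq P k).g)
    (by rw [← Functor.map_comp, (seq P k).zero, Functor.map_zero])

/-- `0 → coker → f_* Z^{k+1} → R^{k+1} → 0`. -/
noncomputable abbrev seqB (k : ℕ) : ShortComplex (CohTop.Ab Y) :=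
  ShortComplex.mk (jmap f P k) (cokernel.π ((CohTop.push f).map (seq P k).g)) (by
    rw [← cancel_epi (cokernel.π ((CohTop.push f).map (seq P k).f)), cokernel.π_desc_assoc,
      comp_zero, cokernel.condition])

lemma seqA_shortExact (k : ℕ) : (seqA f P k).ShortExact := by
  haveI := (seq_shortExact P k).mono_f
  haveI : Mono ((CohTop.push f).map (seq P k).f) := (CohTop.push f).map_mono _
  exact { exact := ShortComplex.exact_cokernel _ }

lemma seqB_shortExact (k : ℕ) : (seqB f P k).ShortExact := by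
  have hex := (seq_shortExact P k).exact.map_of_mono_of_preservesKernel (CohTop.push f)
    (seq_shortExact P k).mono_f inferInstance
  haveI : Mono (jmap f P k) := (ShortComplex.exact_iff_mono_cokernel_desc ((seq P k).map (CohTop.push f))).1 hex
  have h : cokernel.π ((CohTop.push f).map (seq P k).f) ≫ jmap f P k =
      (CohTop.push f).map (seq P k).g := cokernel.π_desc _ _ _
  refine { exact := ShortComplex.exact_of_g_is_cokernel _ ?_ }
  refine CokernelCofork.IsColimit.ofπ _ _ (fun g hg => cokernel.desc _ g ?_)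
    (fun g hg => cokernel.π_desc _ _ _)
    (fun g hg m hm => (cancel_epi (cokernel.π _)).1 (hm.trans (cokernel.π_desc _ _ _).symm))
  rw [← h, Category.assoc, hg, comp_zero]

lemma acyc_push_X (k : ℕ) : Acyc ((CohTop.push f).obj (P.cocomplex.X k)) := fun p => by
  haveI := P.injective k
  haveI : Injective ((CohTop.push f).obj (P.cocomplex.X k)) := (CohTop.push f).injective_obj _
  exact subsingleton_of_forall_eq 0 fun x => Ext.eq_zero_of_injective x

variable (h : ∀ q : ℕ, Acyc ((CohTop.Rpush f q).obj F))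

include h in
lemma acyc_cyc : ∀ k : ℕ, Acyc ((CohTop.push f).obj (cyc P k))
  | 0 => Acyc.of_iso (((CohTop.push f).rightDerivedZeroIsoSelf.app F) ≪≫
      (CohTop.push f).mapIso (isoCyc₀ P)) (h 0)
  | k + 1 => acyc_X₂ (seqB_shortExact f P k)
      (acyc_X₃ (seqA_shortExact f P k) (acyc_cyc k) (acyc_push_X f P k))
      (Acyc.of_iso (isoCokernel P (CohTop.push f) k) (h (k + 1)))

include h in
/-- If every `R^q f_* F` is acyclic, `H^q(X, F) = Γ(Y, R^q f_* F)`. -/
theorem nonempty_equiv (q : ℕ) :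
    Nonempty (CohTop.H F q ≃+ ((CohTop.Rpush f q).obj F).obj.obj (op ⊤)) := by
  let P := injectiveResolution F
  match q with
  | 0 =>
    let e := (CohTop.push f).rightDerivedZeroIsoSelf.app F ≪≫ (CohTop.push f).mapIso (isoCyc₀ P)
    exact ⟨((hTop F 0).trans (AddEquiv.ofBijective _ (toHU_zero_bijective (ofRes P) ⊤)).symm).trans
      (((sheafToPresheaf _ AddCommGrpCat.{u}).mapIso e).app (op ⊤)).addCommGroupIsoToAddEquiv.symm⟩
  | k + 1 =>
    have hA := seqA_shortExact f P k
    have hB := seqB_shortExact f P k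
    haveI : Subsingleton (CohTop.HU (seqA f P k).X₁ 1 ⊤) := acyc_cyc f P h k 0
    haveI : Subsingleton (CohTop.HU (seqB f P k).X₁ 1 ⊤) :=
      acyc_X₃ hA (acyc_cyc f P h k) (acyc_push_X f P k) 0
    let φ : (cyc P (k + 1)).obj.obj (op (⊤ : Opens X)) →+ (seqB f P k).X₃.obj.obj (op ⊤) :=
      ((seqB f P k).g.hom.app (op ⊤)).hom
    let e := isoCokernel P (CohTop.push f) k
    refine ⟨((hTop F (k + 1)).trans (Groth.Agent.Lib.Cech.Compare.equivOfKerEq
      (toHU (ofRes P) (k + 1) ⊤) φ (toHU_surjective _ _ _)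
      (Groth.Agent.Lib.Cech.Sections.app_surjective hB ⊤) ?_)).trans
      (((sheafToPresheaf _ AddCommGrpCat.{u}).mapIso e).app (op ⊤)).addCommGroupIsoToAddEquiv.symm⟩
    ext s
    change toHU (ofRes P) (k + 1) ⊤ s = 0 ↔ φ s = 0
    rw [toHU_succ_eq_zero_iff]
    constructor
    · rintro ⟨t, rfl⟩
      show (((CohTop.push f).map (seq P k).g) ≫ cokernel.π _).hom.app (op ⊤) t = 0
      rw [cokernel.condition]
      rfl
    · intro hs
      obtain ⟨c, hc⟩ := Groth.Agent.Lib.Cech.Sections.app_exact hB ⊤ s hs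
      obtain ⟨t, rfl⟩ := Groth.Agent.Lib.Cech.Sections.app_surjective hA ⊤ c
      refine ⟨t, Eq.trans ?_ hc⟩
      show ((CohTop.push f).map (seq P k).g).hom.app (op ⊤) t =
        ((cokernel.π _ ≫ jmap f P k) : _ ⟶ _).hom.app (op ⊤) t
      rw [cokernel.π_desc]

end Groth.Agent.H30.LerayBase
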