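import Groth.Agent.H30.TopCoh
import Groth.Agent.Lib.SiteCoh.OverForget
import Groth.Agent.Lib.BigEt.Derived
import Mathlib.Topology.Sheaves.Over

/-!
# Higher direct images commute with restriction to an open of the base
-/

set_option autoImplicit false
set_option linter.style.haveILetI false

universe u

open CategoryTheory Limits TopologicalSpace Opposite
open Groth.Agent.Lib.ZarCoh.Basic Groth.Agent.Lib.ZarCoh.Compare
open Groth.Agent.H30.TopCoh Groth.Agent.Lib.BigEt.Derived

namespace Groth.Agent.H30.RpushRestr

variable {X Y : TopCat.{u}}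

/-- Restriction to an open subspace preserves injectives. -/
instance restr_preservesInjectiveObjects (U : Opens X) :
    (CohTop.restrFunctor U).PreservesInjectiveObjects where
  injective_obj {I} _ := by
    have h1 : Injective
        ((CohSite.push (Opens.grothendieckTopology X) ((Opens.grothendieckTopology X).over U)
          (Over.forget U)).obj I) :=
      Functor.PreservesInjectiveObjects.injective_obj inferInstance
    exact Injective.of_iso ((U.overPullbackSheafEquivOver (A := AddCommGrpCat.{u})).app I)
      ((U.sheafEquivOver (A := AddCommGrpCat.{u})).functor.injective_obj _)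

instance restr_preservesFiniteLimits (U : Opens X) : PreservesFiniteLimits (CohTop.restrFunctor U) :=
  inferInstanceAs (PreservesFiniteLimits (rst (U.isOpenEmbedding (X := X))))

instance restr_preservesFiniteColimits (U : Opens X) :
    PreservesFiniteColimits (CohTop.restrFunctor U) :=
  inferInstanceAs (PreservesFiniteColimits (rst (U.isOpenEmbedding (X := X))))

variable (f : X ⟶ Y) (V : Opens Y)

/-- The restriction of `f` over `V`. -/
abbrev resMap : TopCat.of ((Opens.map f).obj V) ⟶ TopCat.of V :=
  TopCat.ofHom ⟨(V : Set Y).restrictPreimage f, f.hom.continuous.restrictPreimage⟩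

lemma image_preimage_resMap (W : Opens (TopCat.of V)) :
    (((Opens.map f).obj V).isOpenEmbedding (X := X)).functor.obj ((Opens.map (resMap f V)).obj W) =
      (Opens.map f).obj ((V.isOpenEmbedding (X := Y)).functor.obj W) := by
  ext x
  constructor
  · rintro ⟨y, hy, rfl⟩
    exact ⟨_, hy, rfl⟩
  · rintro ⟨z, hz, e⟩
    refine ⟨⟨x, show f x ∈ V from e ▸ z.2⟩, ?_, rfl⟩
    have h : resMap f V ⟨x, show f x ∈ V from e ▸ z.2⟩ = z := Subtype.ext e.symm
    show resMap f V _ ∈ W
    exact (congrArg (· ∈ W) h).mpr hz

/-- Direct image followed by restriction is restriction followed by direct image. -/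
noncomputable def pushRestrIso :
    CohTop.push f ⋙ CohTop.restrFunctor V ≅
      CohTop.restrFunctor ((Opens.map f).obj V) ⋙ CohTop.push (resMap f V) :=
  NatIso.ofComponents
    (fun F => (fullyFaithfulSheafToPresheaf _ _).preimageIso
      (NatIso.ofComponents (fun W => F.obj.mapIso (eqToIso (image_preimage_resMap f V W.unop)).op)
        fun {W W'} g => by
          refine (F.obj.map_comp _ _).symm.trans (Eq.trans ?_ (F.obj.map_comp _ _))
          exact congrArg _ (Subsingleton.elim _ _)))
    fun {F G} φ => by
      refine CategoryTheory.Sheaf.hom_ext (NatTrans.ext (funext fun W => ?_))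
      exact (φ.hom.naturality _).symm

instance push_resMap_additive : (CohTop.push (resMap f V)).Additive where

/-- `(R^p f_* F)|_V = R^p (f|_V)_* (F|_{f⁻¹ V})`. -/
noncomputable def rpushRestrIso (F : CohTop.Ab X) (p : ℕ) :
    CohTop.restr ((CohTop.Rpush f p).obj F) V ≅
      (CohTop.Rpush (resMap f V) p).obj (CohTop.restr F ((Opens.map f).obj V)) :=
  (postcompIso (CohTop.push f) (CohTop.restrFunctor V) p F).symm ≪≫
    (natIsoIso (pushRestrIso f V) p).app F ≪≫
    precompIso (CohTop.restrFunctor ((Opens.map f).obj V)) (CohTop.push (resMap f V)) p F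

end Groth.Agent.H30.RpushRestr
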