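import Groth.Agent.H30.SysLemmas
import Mathlib.RingTheory.Nakayama
import Mathlib.RingTheory.AdicCompletion.Basic

/-!
# Formal spectra and pullbacks of systems (helper30)
-/

universe u

open CategoryTheory CategoryTheory.Limits AlgebraicGeometry

namespace Groth.Agent.H30.Spf

open Groth.Agent.H30.IdealLemmas Groth.Agent.H30.SysLemmas Groth.Agent.Lib.Ideal.Comap

/-- A levelwise cartesian square of systems is cartesian. -/
theorem isPullback_of_app {P 𝔛 𝔜 𝔖 : FSch.Sys.{u}} {a : P ⟶ 𝔛} {b : P ⟶ 𝔜} {f : 𝔛 ⟶ 𝔖}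
    {g : 𝔜 ⟶ 𝔖}
    (H : ∀ n, IsPullback ((a : FSch.Hom _ _).app n) ((b : FSch.Hom _ _).app n)
      ((f : FSch.Hom _ _).app n) ((g : FSch.Hom _ _).app n)) : IsPullback a b f g := by
  refine IsPullback.of_isLimit' ⟨FSch.Hom.ext (funext fun n => (H n).w)⟩
    (PullbackCone.IsLimit.mk _ (fun s => ⟨fun n =>
      (H n).lift ((s.fst : FSch.Hom _ _).app n) ((s.snd : FSch.Hom _ _).app n)
        (congrArg (fun k : s.pt ⟶ 𝔖 => (k : FSch.Hom _ _).app n) s.condition), fun n => ?_⟩) ?_ ?_ ?_)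
  · apply (H (n + 1)).hom_ext
    · rw [Category.assoc, Category.assoc, (H (n + 1)).lift_fst, ← (a : FSch.Hom _ _).comm n,
        (H n).lift_fst_assoc, (s.fst : FSch.Hom _ _).comm n]
    · rw [Category.assoc, Category.assoc, (H (n + 1)).lift_snd, ← (b : FSch.Hom _ _).comm n,
        (H n).lift_snd_assoc, (s.snd : FSch.Hom _ _).comm n]
  · intro s
    exact FSch.Hom.ext (funext fun n => (H n).lift_fst _ _ _)
  · intro s
    exact FSch.Hom.ext (funext fun n => (H n).lift_snd _ _ _)
  · intro s m h1 h2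
    refine FSch.Hom.ext (funext fun n => (H n).hom_ext ?_ ?_)
    · exact (congrArg (fun k : s.pt ⟶ 𝔛 => (k : FSch.Hom _ _).app n) h1).trans
        ((H n).lift_fst _ _ _).symm
    · exact (congrArg (fun k : s.pt ⟶ 𝔜 => (k : FSch.Hom _ _).app n) h2).trans
        ((H n).lift_snd _ _ _).symm

theorem idealSpec_injective (A : Type u) [CommRing A] {J J' : _root_.Ideal A}
    (h : FSch.idealSpec A J = FSch.idealSpec A J') : J = J' := by
  have h1 := congrArg (fun K : (Spec (CommRingCat.of A)).IdealSheafData =>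
    (K.ideal ⟨⊤, isAffineOpen_top _⟩).map (Scheme.ΓSpecIso (CommRingCat.of A)).hom.hom) h
  simp only [idealSpec_ideal_top, _root_.Ideal.map_map] at h1
  have h2 : (Scheme.ΓSpecIso (CommRingCat.of A)).hom.hom.comp
      (Scheme.ΓSpecIso (CommRingCat.of A)).inv.hom = RingHom.id A :=
    congrArg CommRingCat.Hom.hom (Scheme.ΓSpecIso (CommRingCat.of A)).inv_hom_id
  erw [h2, _root_.Ideal.map_id, _root_.Ideal.map_id] at h1
  exact h1

section SpfMap

variable {A B : Type u} [CommRing A] [CommRing B] (I : _root_.Ideal A) (K : _root_.Ideal B)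
  (φ : B →+* A) (h : K ≤ I.comap φ)

theorem spfMap_app_comp_spfToSpec (n : ℕ) :
    (FSch.spfMap I K φ h : FSch.Hom _ _).app n ≫ FSch.spfToSpec B K n =
      FSch.spfToSpec A I n ≫ Spec.map (CommRingCat.ofHom φ) := by
  change Spec.map _ ≫ Spec.map _ = Spec.map _ ≫ Spec.map _
  rw [← Spec.map_comp, ← Spec.map_comp]
  rfl

theorem ker_ι_comap (n : ℕ) :
    ((FSch.spf B K).ι n).ker.comap ((FSch.spfMap I K φ h : FSch.Hom _ _).app (n + 1)) =
      ((FSch.idealSpec A (K.map φ)).comap (FSch.spfToSpec A I (n + 1))) ^ (n + 1) := by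
  have : ∀ n, IsClosedImmersion (FSch.spfToSpec B K n) := fun n => isClosedImmersion_specQuot B K n
  rw [ker_ι_eq (FSch.spf B K) (FSch.idealSpec B K) (fun n => FSch.spfToSpec B K n)
    (fun n => CohB1.specQuotTrans_specQuot K n) (ker_specQuot B K), comap_pow,
    ← Scheme.IdealSheafData.comap_comp, spfMap_app_comp_spfToSpec,
    Scheme.IdealSheafData.comap_comp, comap_idealSpec]

theorem ker_spf_ι (n : ℕ) : ((FSch.spf A I).ι n).ker =
    ((FSch.idealSpec A I).comap (FSch.spfToSpec A I (n + 1))) ^ (n + 1) :=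
  have : ∀ n, IsClosedImmersion (FSch.spfToSpec A I n) := fun n => isClosedImmersion_specQuot A I n
  ker_ι_eq (FSch.spf A I) (FSch.idealSpec A I) (fun n => FSch.spfToSpec A I n)
    (fun n => CohB1.specQuotTrans_specQuot I n) (ker_specQuot A I) n

theorem isClosedImmersion_spf_ι (n : ℕ) : IsClosedImmersion ((FSch.spf A I).ι n) :=
  IsClosedImmersion.spec_of_surjective _
    (_root_.Ideal.Quotient.factor_surjective (_root_.Ideal.pow_le_pow_right (Nat.le_succ (n + 1))))

theorem isAdicHom_spfMap_of_map_eq (hI : K.map φ = I) : FSch.IsAdicHom (FSch.spfMap I K φ h) := by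
  intro n
  have := isClosedImmersion_spf_ι I n
  have := isClosedImmersion_spf_ι K n
  refine AlgebraicGeometry.isPullback_of_isClosedImmersion _ _ _ _
    ((FSch.spfMap I K φ h : FSch.Hom _ _).comm n).symm ?_
  rw [ker_ι_comap, ker_spf_ι, hI]

theorem map_eq_of_isAdicHom_spfMap [IsNoetherianRing A] [IsAdicComplete I A]
    (ha : FSch.IsAdicHom (FSch.spfMap I K φ h)) : K.map φ = I := by
  have := isClosedImmersion_spf_ι I 0
  have := isClosedImmersion_spf_ι K 0
  have hle : K.map φ ≤ I := _root_.Ideal.map_le_iff_le_comap.mpr h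
  have h1 : ((FSch.spf A I).ι 0).ker =
      ((FSch.spf B K).ι 0).ker.comap ((FSch.spfMap I K φ h : FSch.Hom _ _).app 1) := by
    rw [← Scheme.IdealSheafData.ker_fst_of_isClosedImmersion, ← (ha 0).isoPullback_hom_fst,
      Scheme.Hom.ker_comp_of_isIso]
  rw [ker_ι_comap, ker_spf_ι, pow_one, pow_one] at h1
  have h2 : I.map (_root_.Ideal.Quotient.mk (I ^ (1 + 1))) =
      (K.map φ).map (_root_.Ideal.Quotient.mk (I ^ (1 + 1))) := by
    apply idealSpec_injective
    rw [← comap_idealSpec, ← comap_idealSpec]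
    exact h1
  refine le_antisymm hle (Submodule.le_of_le_smul_of_le_jacobson_bot (IsNoetherian.noetherian I)
    (IsAdicComplete.le_jacobson_bot I) ?_)
  have h3 := congrArg (_root_.Ideal.comap (_root_.Ideal.Quotient.mk (I ^ (1 + 1)))) h2
  rw [_root_.Ideal.comap_map_of_surjective _ _root_.Ideal.Quotient.mk_surjective,
    _root_.Ideal.comap_map_of_surjective _ _root_.Ideal.Quotient.mk_surjective,
    ← RingHom.ker_eq_comap_bot, _root_.Ideal.mk_ker] at h3
  calc I ≤ I ⊔ I ^ (1 + 1) := le_sup_left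
    _ = K.map φ ⊔ I ^ (1 + 1) := h3
    _ ≤ K.map φ ⊔ I • I := sup_le_sup_left (by rw [pow_two, smul_eq_mul]) _

end SpfMap

end Groth.Agent.H30.Spf
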