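import Groth.Agent.H30.Stalk
import Groth.Agent.H30.Compl
import Groth.Agent.Lib.LocalFlat.Criterion
import Groth.Agent.Lib.Excellent.CompletionNoetherian
import Groth.Agent.Lib.Flat55.FlatDescend
import Mathlib.RingTheory.Flat.EquationalCriterion
import Mathlib.RingTheory.Flat.FaithfullyFlat.Algebra
import Mathlib.RingTheory.Flat.Localization
import Mathlib.RingTheory.TensorProduct.Quotient
import Mathlib.RingTheory.RingHom.Flat
import Mathlib.RingTheory.AdicCompletion.AsTensorProduct

/-!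
# The stalk of a formal spectrum is Noetherian, with faithfully flat completion (helper30)
-/

universe u

namespace Groth.Agent.H30.StalkFlat

open AdicCompletion Groth.Agent.H30.Stalk

variable (A : Type u) [CommRing A] (J 𝔭 : _root_.Ideal A) [𝔭.IsPrime]

theorem quot_localization_flat (f : A) (hf : f ∉ 𝔭) (n : ℕ)
    (h : (J.map (algebraMap A (Localization.Away f))) ^ n ≤
      ((J.map (algebraMap A (Localization.AtPrime 𝔭))) ^ n).comap (FSch.awayToAtPrime A 𝔭 f hf)) :
    (_root_.Ideal.quotientMap _ (FSch.awayToAtPrime A 𝔭 f hf) h).Flat := by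
  set g := _root_.Ideal.quotientMap _ (FSch.awayToAtPrime A 𝔭 f hf) h
  letI : Algebra _ _ := g.toAlgebra
  change Module.Flat _ _
  set B := A ⧸ J ^ n
  set Q := Localization.Away f ⧸ (J.map (algebraMap A (Localization.Away f))) ^ n
  set T := Localization.AtPrime 𝔭 ⧸ (J.map (algebraMap A (Localization.AtPrime 𝔭))) ^ n
  let φQ : B →+* Q := _root_.Ideal.quotientMap _ (algebraMap A _)
    (_root_.Ideal.map_le_iff_le_comap.mp (by rw [_root_.Ideal.map_pow]))
  let φT : B →+* T := _root_.Ideal.quotientMap _ (algebraMap A _)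
    (_root_.Ideal.map_le_iff_le_comap.mp (by rw [_root_.Ideal.map_pow]))
  letI : Algebra B Q := φQ.toAlgebra
  letI : Algebra B T := φT.toAlgebra
  haveI : IsScalarTower B Q T := IsScalarTower.of_algebraMap_eq fun b => by
    obtain ⟨a, rfl⟩ := _root_.Ideal.Quotient.mk_surjective b
    change _root_.Ideal.Quotient.mk _ (algebraMap A (Localization.AtPrime 𝔭) a) =
      _root_.Ideal.Quotient.mk _ (FSch.awayToAtPrime A 𝔭 f hf (algebraMap A (Localization.Away f) a))
    simp [FSch.awayToAtPrime]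
  haveI hQ : IsLocalization ((Submonoid.powers f).map (_root_.Ideal.Quotient.mk (J ^ n))) Q := by
    have e : (J ^ n).map (algebraMap A (Localization.Away f)) =
        (J.map (algebraMap A (Localization.Away f))) ^ n := _root_.Ideal.map_pow _ _ _
    haveI : IsLocalization ((Submonoid.powers f).map (_root_.Ideal.Quotient.mk (J ^ n)))
        (Localization.Away f ⧸ (J ^ n).map (algebraMap A (Localization.Away f))) :=
      (inferInstance : IsLocalization (Algebra.algebraMapSubmonoid B (Submonoid.powers f)) _)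
    refine IsLocalization.isLocalization_of_algEquiv _
      (AlgEquiv.ofRingEquiv (f := _root_.Ideal.quotEquivOfEq e) (fun b => ?_) :
        (Localization.Away f ⧸ (J ^ n).map (algebraMap A (Localization.Away f))) ≃ₐ[B] Q)
    obtain ⟨a, rfl⟩ := _root_.Ideal.Quotient.mk_surjective b
    rfl
  haveI hT : IsLocalization (𝔭.primeCompl.map (_root_.Ideal.Quotient.mk (J ^ n))) T := by
    have e : (J ^ n).map (algebraMap A (Localization.AtPrime 𝔭)) =
        (J.map (algebraMap A (Localization.AtPrime 𝔭))) ^ n := _root_.Ideal.map_pow _ _ _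
    haveI : IsLocalization (𝔭.primeCompl.map (_root_.Ideal.Quotient.mk (J ^ n)))
        (Localization.AtPrime 𝔭 ⧸ (J ^ n).map (algebraMap A (Localization.AtPrime 𝔭))) :=
      (inferInstance : IsLocalization (Algebra.algebraMapSubmonoid B 𝔭.primeCompl) _)
    refine IsLocalization.isLocalization_of_algEquiv _
      (AlgEquiv.ofRingEquiv (f := _root_.Ideal.quotEquivOfEq e) (fun b => ?_) :
        (Localization.AtPrime 𝔭 ⧸ (J ^ n).map (algebraMap A (Localization.AtPrime 𝔭))) ≃ₐ[B] T)
    obtain ⟨a, rfl⟩ := _root_.Ideal.Quotient.mk_surjective b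
    rfl
  exact (Module.flat_iff_of_isLocalization Q ((Submonoid.powers f).map (_root_.Ideal.Quotient.mk (J ^ n))) T).mpr
    (IsLocalization.flat T (𝔭.primeCompl.map (_root_.Ideal.Quotient.mk (J ^ n))))

theorem map_map_awayToAtPrime (f : A) (hf : f ∉ 𝔭) :
    (J.map (algebraMap A (Localization.Away f))).map (FSch.awayToAtPrime A 𝔭 f hf) =
      J.map (algebraMap A (Localization.AtPrime 𝔭)) := by
  rw [_root_.Ideal.map_map]
  congr 1
  ext a
  simp [FSch.awayToAtPrime]

/-- Flatness of a completed map modulo `n`-th powers is flatness of the map modulo `n`-th powers. -/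
theorem flat_quot_complMap {S T : Type u} [CommRing S] [CommRing T] (K : _root_.Ideal S)
    (L : _root_.Ideal T) (hK : K.FG) (hL : L.FG) (g : S →+* T) (h : K.map g ≤ L)
    [Algebra (AdicCompletion K S) (AdicCompletion L T)]
    (halg : algebraMap (AdicCompletion K S) (AdicCompletion L T) = FSch.complMap K L g h) (n : ℕ)
    (hpow : ((K.map (algebraMap S (AdicCompletion K S))) ^ n).map
        (algebraMap (AdicCompletion K S) (AdicCompletion L T)) =
      (L.map (algebraMap T (AdicCompletion L T))) ^ n)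
    (hg : (_root_.Ideal.quotientMap (L ^ n) g (FSch.pow_le_comap_pow_of_map_le K L g h n)).Flat) :
    Module.Flat (AdicCompletion K S ⧸ (K.map (algebraMap S (AdicCompletion K S))) ^ n)
      (TensorProduct (AdicCompletion K S)
        (AdicCompletion K S ⧸ (K.map (algebraMap S (AdicCompletion K S))) ^ n) (AdicCompletion L T)) := by
  set I := (K.map (algebraMap S (AdicCompletion K S))) ^ n
  let eQ := Compl.quotPowEquiv K hK n
  let eT := (_root_.Ideal.quotEquivOfEq hpow).trans (Compl.quotPowEquiv L hL n)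
  have hcomp : algebraMap (AdicCompletion K S ⧸ I)
      (AdicCompletion L T ⧸ I.map (algebraMap (AdicCompletion K S) (AdicCompletion L T))) =
      eT.symm.toRingHom.comp
        ((_root_.Ideal.quotientMap (L ^ n) g (FSch.pow_le_comap_pow_of_map_le K L g h n)).comp
          eQ.toRingHom) := by
    refine _root_.Ideal.Quotient.ringHom_ext (RingHom.ext fun x => ?_)
    refine eT.injective ?_
    simp only [RingEquiv.toRingHom_eq_coe, RingHom.coe_comp, RingHom.coe_coe, Function.comp_apply,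
      RingEquiv.apply_symm_apply]
    refine Eq.trans ?_ (evalₐ_complMap K L g h n x)
    rw [← halg]
    rfl
  have hflat : (algebraMap (AdicCompletion K S ⧸ I)
      (AdicCompletion L T ⧸ I.map (algebraMap (AdicCompletion K S) (AdicCompletion L T)))).Flat := by
    rw [hcomp]
    exact RingHom.Flat.comp (RingHom.Flat.comp (RingHom.Flat.of_bijective eQ.bijective) hg)
      (RingHom.Flat.of_bijective eT.symm.bijective)
  rw [RingHom.flat_algebraMap_iff] at hflat
  exact Module.Flat.of_linearEquiv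
    (Algebra.TensorProduct.quotIdealMapEquivQuotTensor (AdicCompletion L T) I).toLinearEquiv.symm

theorem cAwayToAtPrime_flat [IsNoetherianRing A] (hJ : J ≤ 𝔭) (f : A) (hf : f ∉ 𝔭) :
    (FSch.cAwayToAtPrime A J 𝔭 f hf).Flat := by
  letI : Algebra (FSch.cAway A J f) (FSch.cAtPrime A J 𝔭) :=
    (FSch.cAwayToAtPrime A J 𝔭 f hf).toAlgebra
  change Module.Flat (FSch.cAway A J f) (FSch.cAtPrime A J 𝔭)
  haveI := isLocalRing_cAtPrime A J 𝔭 hJ
  set Kf := J.map (algebraMap A (Localization.Away f))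
  set Kp := J.map (algebraMap A (Localization.AtPrime 𝔭))
  set I : _root_.Ideal (FSch.cAway A J f) :=
    Kf.map (algebraMap (Localization.Away f) (FSch.cAway A J f))
  have hI : I.map (algebraMap (FSch.cAway A J f) (FSch.cAtPrime A J 𝔭)) =
      Kp.map (algebraMap (Localization.AtPrime 𝔭) (FSch.cAtPrime A J 𝔭)) := by
    have h1 := congrArg (_root_.Ideal.map (algebraMap (Localization.AtPrime 𝔭) (FSch.cAtPrime A J 𝔭)))
      (map_map_awayToAtPrime A J 𝔭 f hf)
    rw [_root_.Ideal.map_map] at h1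
    refine Eq.trans ?_ h1
    rw [_root_.Ideal.map_map]
    congr 1
    all_goals exact RingHom.ext fun s => complMap_algebraMap _ _ _ _ s
  refine Groth.Agent.Lib.LocalFlat.Criterion.flat_of_flat_quotient_pow (FSch.cAtPrime A J 𝔭) I
    (Groth.Agent.Lib.LocalFlat.Criterion.map_le_jacobson_bot ?_) (fun n => ?_)
  · intro htop
    rw [hI] at htop
    have h2 := congrArg (_root_.Ideal.map (evalOneₐ Kp).toRingHom) htop
    rw [_root_.Ideal.map_map, show (evalOneₐ Kp).toRingHom.comp
      (algebraMap (Localization.AtPrime 𝔭) (FSch.cAtPrime A J 𝔭)) = _root_.Ideal.Quotient.mk Kp from rfl,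
      _root_.Ideal.map_quotient_self, _root_.Ideal.map_top] at h2
    haveI : Nontrivial (Localization.AtPrime 𝔭 ⧸ Kp) :=
      _root_.Ideal.Quotient.nontrivial_iff.mpr (map_ne_top A J 𝔭 hJ)
    exact bot_ne_top h2
  · exact flat_quot_complMap Kf Kp (IsNoetherian.noetherian Kf) (IsNoetherian.noetherian Kp)
      (FSch.awayToAtPrime A 𝔭 f hf) (FSch.map_awayToAtPrime_le A J 𝔭 f hf) rfl n
      (by rw [_root_.Ideal.map_pow]; exact congrArg (· ^ n) hI)
      (quot_localization_flat A J 𝔭 f hf n _)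

theorem subtype_flat [IsNoetherianRing A] (hJ : J ≤ 𝔭) :
    Module.Flat (FSch.stalkSubring A J 𝔭) (FSch.cAtPrime A J 𝔭) := by
  refine Module.Flat.iff_forall_isTrivialRelation.mpr fun {l b x} hbx => ?_
  classical
  choose f hf y hy using fun i => (mem_stalkSubring_iff A J 𝔭).mp (b i).2
  have hF : ∏ i, f i ∉ 𝔭 := fun h => by
    obtain ⟨i, -, hi⟩ := (_root_.Ideal.IsPrime.prod_mem_iff).mp h
    exact hf i hi
  choose z hz using fun i =>
    range_mono A J 𝔭 (hf i) hF (Finset.dvd_prod_of_mem f (Finset.mem_univ i)) ⟨y i, rfl⟩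
  letI : Algebra (FSch.cAway A J (∏ i, f i)) (FSch.cAtPrime A J 𝔭) :=
    (FSch.cAwayToAtPrime A J 𝔭 _ hF).toAlgebra
  haveI : Module.Flat (FSch.cAway A J (∏ i, f i)) (FSch.cAtPrime A J 𝔭) :=
    cAwayToAtPrime_flat A J 𝔭 hJ _ hF
  have hzb : ∀ i, FSch.cAwayToAtPrime A J 𝔭 _ hF (z i) = (b i : FSch.cAtPrime A J 𝔭) :=
    fun i => (hz i).trans (hy i)
  have h0 : ∑ i, z i • x i = 0 := by
    refine Eq.trans (Finset.sum_congr rfl fun i _ => ?_) hbx
    rw [Algebra.smul_def, Subring.smul_def, smul_eq_mul]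
    exact congrArg (· * x i) (hzb i)
  obtain ⟨k, a, t, h1, h2⟩ := Module.Flat.isTrivialRelation_of_sum_smul_eq_zero h0
  refine ⟨k, fun i j => ⟨FSch.cAwayToAtPrime A J 𝔭 _ hF (a i j),
    (mem_stalkSubring_iff A J 𝔭).mpr ⟨_, hF, a i j, rfl⟩⟩, t, fun i => ?_, fun j => ?_⟩
  · rw [h1 i]
    rfl
  · refine Subtype.ext ?_
    rw [ZeroMemClass.coe_zero, ← (FSch.cAwayToAtPrime A J 𝔭 _ hF).map_zero, ← h2 j]
    simp only [map_sum, map_mul, AddSubmonoidClass.coe_finset_sum, Subring.coe_mul, hzb]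

theorem faithfullyFlat [IsNoetherianRing A] (hJ : J ≤ 𝔭) :
    Module.FaithfullyFlat (FSch.stalkSubring A J 𝔭) (FSch.cAtPrime A J 𝔭) := by
  haveI := isLocalRing_stalkSubring A J 𝔭 hJ
  haveI := isLocalRing_cAtPrime A J 𝔭 hJ
  haveI := subtype_flat A J 𝔭 hJ
  haveI : IsLocalHom (algebraMap (FSch.stalkSubring A J 𝔭) (FSch.cAtPrime A J 𝔭)) :=
    isLocalHom_subtype A J 𝔭 hJ
  exact Module.FaithfullyFlat.of_flat_of_isLocalHom

theorem isNoetherianRing [IsNoetherianRing A] (hJ : J ≤ 𝔭) :
    IsNoetherianRing (FSch.stalkSubring A J 𝔭) := by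
  haveI := faithfullyFlat A J 𝔭 hJ
  have hN : IsNoetherian (FSch.cAtPrime A J 𝔭) (FSch.cAtPrime A J 𝔭) := inferInstance
  refine isNoetherian_iff'.mpr (OrderEmbedding.wellFoundedGT
    (OrderEmbedding.ofMapLEIff (fun I : _root_.Ideal (FSch.stalkSubring A J 𝔭) =>
      I.map (algebraMap (FSch.stalkSubring A J 𝔭) (FSch.cAtPrime A J 𝔭))) fun I I' => ⟨fun h => ?_, fun h => _root_.Ideal.map_mono h⟩))
  rw [← _root_.Ideal.comap_map_eq_self_of_faithfullyFlat (B := FSch.cAtPrime A J 𝔭) I,
    ← _root_.Ideal.comap_map_eq_self_of_faithfullyFlat (B := FSch.cAtPrime A J 𝔭) I']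
  exact _root_.Ideal.comap_mono h

theorem toStalk_flat [IsNoetherianRing A] (hJ : J ≤ 𝔭)
    (h : ∀ a : A, ((algebraMap (Localization.AtPrime 𝔭) (FSch.cAtPrime A J 𝔭)).comp
      (algebraMap A (Localization.AtPrime 𝔭))) a ∈ FSch.stalkSubring A J 𝔭) :
    (((algebraMap (Localization.AtPrime 𝔭) (FSch.cAtPrime A J 𝔭)).comp
      (algebraMap A (Localization.AtPrime 𝔭))).codRestrict (FSch.stalkSubring A J 𝔭) h).Flat := by
  set φ := ((algebraMap (Localization.AtPrime 𝔭) (FSch.cAtPrime A J 𝔭)).comp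
      (algebraMap A (Localization.AtPrime 𝔭))).codRestrict (FSch.stalkSubring A J 𝔭) h
  have hψ : ((FSch.stalkSubring A J 𝔭).subtype.comp φ).Flat := by
    have e : (FSch.stalkSubring A J 𝔭).subtype.comp φ = algebraMap A (FSch.cAtPrime A J 𝔭) := by
      refine RingHom.ext fun a => ?_
      exact (IsScalarTower.algebraMap_apply A (Localization.AtPrime 𝔭) (FSch.cAtPrime A J 𝔭) a).symm
    rw [e, RingHom.flat_algebraMap_iff]
    exact Module.Flat.trans A (Localization.AtPrime 𝔭) _
  exact Groth.Agent.Lib.Flat55.FlatDescend.ringHom_flat_of_comp (g := algebraMap _ (FSch.cAtPrime A J 𝔭))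
    (RingHom.faithfullyFlat_algebraMap_iff.mpr (faithfullyFlat A J 𝔭 hJ)) hψ

end Groth.Agent.H30.StalkFlat
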