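import Groth.Agent.Lib.CohBasics.Affine
import Groth.Agent.Lib.Modules.Support
import Groth.Agent.Lib.StalkLoc.Basic
import Groth.Prelude.Def_CohB1
import Mathlib.AlgebraicGeometry.IdealSheaf.Basic

/-!
# Modules of finite type supported on `V(I)` are killed by a power of `I`
-/

set_option autoImplicit false
universe u

open CategoryTheory Limits AlgebraicGeometry Opposite TopologicalSpace

namespace Groth.Agent.H30.SupportIdeal

open Groth.Agent.Lib Groth.Agent.Lib.QCoh.Localizing

variable {X : Scheme.{u}}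

/-- On an affine open, a power of the ideal kills the sections of a module supported on `V(I)`. -/
lemma exists_pow_le_annihilator (I : X.IdealSheafData) (F : X.Modules) [F.IsQuasicoherent]
    [SheafOfModules.IsFiniteType (R := X.ringCatSheaf) F]
    (h : CohB1.support F ⊆ (I.support : Set X)) (V : X.affineOpens) (hV : (I.ideal V).FG) :
    ∃ n : ℕ, I.ideal V ^ n ≤ Module.annihilator Γ(X, V.1) Γ(F, V.1) := by
  refine Ideal.exists_pow_le_of_le_radical_of_fg ?_ hV
  intro a ha
  have hfin : Module.Finite Γ(X, V.1) Γ(F, V.1) := CohBasics.Affine.finite_sections V.2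
  obtain ⟨S, hS⟩ := hfin.fg_top
  have hm : ∀ m : Γ(F, V.1), ∃ n : ℕ, a ^ n • m = 0 := by
    intro m
    refine (localizes_of_isAffineOpen F V.2 a).sep m (Modules.Support.eq_zero_of_germ_eq_zero _ ?_)
    intro x hx hxs
    refine False.elim ?_
    have hxV : x ∈ V.1 := X.basicOpen_le a hx
    have h2 := (Scheme.IdealSheafData.mem_support_iff_of_mem (U := V) hxV).mp (h hxs)
    rw [Scheme.mem_zeroLocus_iff] at h2
    exact h2 a ha hx
  choose n hn using hm
  classical
  refine ⟨∑ m ∈ S, n m, ?_⟩
  rw [Module.mem_annihilator]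
  intro m
  have hmS : m ∈ Submodule.span Γ(X, V.1) (S : Set Γ(F, V.1)) := hS ▸ trivial
  induction hmS using Submodule.span_induction with
  | mem b hb =>
    obtain ⟨k, hk⟩ := Nat.exists_eq_add_of_le (Finset.single_le_sum (f := n) (fun _ _ => Nat.zero_le _) hb)
    rw [hk, add_comm, pow_add, mul_smul, hn b, smul_zero]
  | zero => rw [smul_zero]
  | add b c _ _ hb hc => rw [smul_add, hb, hc, add_zero]
  | smul c b _ hb => rw [smul_comm, hb, smul_zero]

theorem support_subset_iff [CompactSpace X] (I₀ : X.IdealSheafData)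
    (hI₀ : ∀ V : X.affineOpens, (I₀.ideal V).FG)
    (F : X.Modules) [F.IsQuasicoherent] (hF : CohB1.IsFT F) :
    CohB1.support F ⊆ (I₀.support : Set X) ↔
      ∃ I : X.IdealSheafData, (∀ V : X.affineOpens, (I.ideal V).FG) ∧
        (I.support : Set X) = (I₀.support : Set X) ∧
        ∀ (V : X.affineOpens) (a : Γ(X, V)), a ∈ I.ideal V → ∀ m : Γ(F, V.1), a • m = 0 := by
  haveI : SheafOfModules.IsFiniteType (R := X.ringCatSheaf) F := hF
  constructor
  · intro h
    obtain ⟨s, hs, hcov⟩ := isCompact_and_isOpen_iff_finite_and_eq_biUnion_affineOpens.mp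
      ⟨(isCompact_univ : IsCompact ((⊤ : X.Opens) : Set X)), (⊤ : X.Opens).2⟩
    have := hs.fintype
    choose n hn using fun V : s => exists_pow_le_annihilator I₀ F h V.1 (hI₀ V.1)
    let N := (Finset.univ.sum n) + 1
    refine ⟨I₀ ^ N, fun V => ?_, ?_, fun V a ha m => ?_⟩
    · rw [Scheme.IdealSheafData.ideal_pow, Pi.pow_apply]
      exact Submodule.FG.pow (hI₀ V) N
    · rw [Scheme.IdealSheafData.support_pow]
      exact Nat.succ_ne_zero _
    · refine TopCat.Presheaf.section_ext (⟨F.presheaf, F.isSheaf⟩ : TopCat.Sheaf AddCommGrpCat.{u} X)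
        V.1 _ 0 fun x hx => ?_
      refine Eq.trans ?_ (map_zero _).symm
      change F.presheaf.germ V.1 x hx _ = 0
      rw [Modules.StalkModule.germ_smul]
      have hxtop : x ∈ (Set.univ : Set X) := trivial
      rw [hcov] at hxtop
      obtain ⟨Vi, hVi, hxi⟩ := Set.mem_iUnion₂.mp hxtop
      obtain ⟨W, hW, hxW, hWle⟩ := exists_isAffineOpen_mem_and_subset
        (show x ∈ V.1 ⊓ Vi.1 from ⟨hx, hxi⟩)
      have ha2 : X.presheaf.germ V.1 x hx a ∈
          ((I₀.ideal Vi) ^ N).map (X.presheaf.germ Vi.1 x hxi).hom := by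
        have e1 : X.presheaf.map (homOfLE (fun y hy => (hWle hy).1 : W ≤ V.1)).op a ∈
            (I₀ ^ N).ideal ⟨W, hW⟩ := by
          rw [← (I₀ ^ N).map_ideal (U := ⟨W, hW⟩) (V := V) (fun y hy => (hWle hy).1)]
          exact Ideal.mem_map_of_mem _ ha
        rw [← (I₀ ^ N).map_ideal (U := ⟨W, hW⟩) (V := Vi) (fun y hy => (hWle hy).2),
          Scheme.IdealSheafData.ideal_pow, Pi.pow_apply] at e1
        have e2 := Ideal.mem_map_of_mem (X.presheaf.germ W x hxW).hom e1
        rw [Ideal.map_map, ← CommRingCat.hom_comp] at e2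
        erw [TopCat.Presheaf.germ_res, TopCat.Presheaf.germ_res_apply] at e2
        exact e2
      have hv : F.presheaf.germ V.1 x hx m ∈ Submodule.span (X.presheaf.stalk x)
          (F.presheaf.germ Vi.1 x hxi '' Set.univ) :=
        (CohBasics.Affine.germ_span_eq_top (M := F) Vi.2 Set.univ Submodule.span_univ hxi).symm ▸ Submodule.mem_top
      revert hv
      generalize F.presheaf.germ V.1 x hx m = v
      intro hv
      induction hv using Submodule.span_induction with
      | mem v hv =>
        obtain ⟨t, -, rfl⟩ := hv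
        have hk : ((I₀.ideal Vi) ^ N).map (X.presheaf.germ Vi.1 x hxi).hom ≤
            (Submodule.span (X.presheaf.stalk x) {F.presheaf.germ Vi.1 x hxi t}).annihilator := by
          rw [Ideal.map_le_iff_le_comap]
          intro b hb
          rw [Ideal.mem_comap, Submodule.mem_annihilator_span_singleton]
          have hle : N ≥ n ⟨Vi, hVi⟩ := by
            exact le_trans (Finset.single_le_sum (f := n) (fun _ _ => Nat.zero_le _)
              (Finset.mem_univ (⟨Vi, hVi⟩ : s))) (Nat.le_succ _)
          have hb' := hn ⟨Vi, hVi⟩ (Ideal.pow_le_pow_right hle hb)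
          rw [← Modules.StalkModule.germ_smul hxi b t, Module.mem_annihilator.mp hb' t, map_zero]
        exact (Submodule.mem_annihilator_span_singleton _ _).mp (hk ha2)
      | zero => rw [smul_zero]
      | add v w _ _ hv hw => rw [smul_add, hv, hw, add_zero]
      | smul c v _ hv => rw [smul_comm, hv, smul_zero]
  · rintro ⟨I, -, hsupp, hkill⟩ x hx
    by_contra hxI
    rw [← hsupp] at hxI
    obtain ⟨V, hV, hxV, -⟩ := exists_isAffineOpen_mem_and_subset (show x ∈ (⊤ : X.Opens) from trivial)
    have h2 : ∃ a ∈ I.ideal ⟨V, hV⟩, x ∈ X.basicOpen a := by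
      by_contra hne
      refine hxI ((Scheme.IdealSheafData.mem_support_iff_of_mem (U := ⟨V, hV⟩) hxV).mpr ?_)
      rw [Scheme.mem_zeroLocus_iff]
      exact fun a ha hax => hne ⟨a, ha, hax⟩
    obtain ⟨a, ha, hax⟩ := h2
    refine hx (subsingleton_of_forall_eq 0 fun v => ?_)
    obtain ⟨g, t, hg, e⟩ := StalkLoc.Basic.exists_smul_eq_germ hV hxV v
    have ht : F.presheaf.germ V x hxV t = 0 := by
      have := congrArg (F.presheaf.germ V x hxV) (hkill ⟨V, hV⟩ a ha t)
      refine ((X.mem_basicOpen a x hxV).mp hax).smul_eq_zero.mp ?_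
      rw [← Modules.StalkModule.germ_smul hxV a t]
      exact this.trans (map_zero _)
    rw [ht] at e
    exact ((X.mem_basicOpen g x hxV).mp hg).smul_eq_zero.mp e

end Groth.Agent.H30.SupportIdeal
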